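import Groth.Agent.Depth.Change
import Mathlib.RingTheory.Ideal.KrullsHeightTheorem
import Mathlib.RingTheory.LocalRing.Module

/-!
# Depth: localization formula and Cohen–Macaulay modules
-/

universe u v w

open RingTheory.Sequence CategoryTheory Abelian Pointwise IsLocalRing

namespace Groth.Agent.Depth

open LocCoh

section Arith

lemma withBot_add_one_cancel {a b : WithBot ℕ∞} (h : a + 1 = b + 1) : a = b := by
  cases a with
  | bot =>
    cases b with
    | bot => rfl
    | coe b => have h' := h.symm; simp at h'
  | coe a =>
    cases b with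
    | bot => simp at h
    | coe b =>
      have h' : a + 1 = b + 1 := by exact_mod_cast h
      rw [(ENat.add_left_injective_of_ne_top ENat.one_ne_top) h']

end Arith

section Equiv

variable {R : Type u} [CommRing R] (S : Submonoid R) (M : Type v) [AddCommGroup M] [Module R M]

/-- Localization commutes with `QuotSMulTop`. -/
noncomputable def localizedQuotSMulTopEquiv (r : R) :
    LocalizedModule S (QuotSMulTop r M) ≃ₗ[Localization S]
      QuotSMulTop (algebraMap R (Localization S) r) (LocalizedModule S M) :=
  (localizedQuotientEquiv S (r • (⊤ : Submodule R M))).symm ≪≫ₗ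
    Submodule.quotEquivOfEq _ _ (by
      rw [Submodule.localized, ← Submodule.ideal_span_singleton_smul,
        Submodule.localized'_smul, Ideal.localized'_eq_map, Submodule.localized'_top,
        Ideal.map_span, Set.image_singleton, Submodule.ideal_span_singleton_smul])

/-- The localization of `R` as a module over itself. -/
noncomputable def localizedSelfEquiv :
    LocalizedModule S R ≃ₗ[Localization S] Localization S :=
  LocalizedModule.equivTensorProduct S R ≪≫ₗ
    TensorProduct.AlgebraTensorModule.rid R (Localization S) (Localization S)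

end Equiv

section DepthLocalization

variable {R : Type u} [CommRing R] [IsNoetherianRing R] {M : Type v} [AddCommGroup M] [Module R M]
  [Module.Finite R M]

lemma depth_localized_quotSMulTop_add_one (p : Ideal R) [p.IsPrime] {r : R} (hr : r ∈ p)
    (reg : IsSMulRegular M r) :
    depth (Localization.AtPrime p) (LocalizedModule p.primeCompl (QuotSMulTop r M)) + 1 =
      depth (Localization.AtPrime p) (LocalizedModule p.primeCompl M) := by
  have hr' : algebraMap R (Localization.AtPrime p) r ∈ maximalIdeal (Localization.AtPrime p) := by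
    rw [← Localization.AtPrime.map_eq_maximalIdeal]; exact Ideal.mem_map_of_mem _ hr
  have reg' : IsSMulRegular (LocalizedModule p.primeCompl M)
      (algebraMap R (Localization.AtPrime p) r) := by
    have := isWeaklyRegular_localizedModule p.primeCompl
      ((isWeaklyRegular_singleton_iff M r).mpr reg)
    simpa [isWeaklyRegular_singleton_iff] using this
  rw [depth_congr (localizedQuotSMulTopEquiv p.primeCompl M r)]
  have : Small.{v} (Localization.AtPrime p) ∨ True := Or.inr trivial
  have : Small.{max u v} (Localization.AtPrime p) := small_max.{v} _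
  exact idealDepth_quotSMulTop_add_one _ hr' reg'

variable [Small.{v} R] in
/-- The `I`-depth is attained at some prime over `I`. -/
lemma exists_depth_atPrime_eq_idealDepth {I : Ideal R} {n : ℕ} :
    ∀ (M : Type v) [AddCommGroup M] [Module R M] [Module.Finite R M],
      I • (⊤ : Submodule R M) ≠ ⊤ → idealDepth I M = n →
      ∃ p : PrimeSpectrum R, I ≤ p.asIdeal ∧ p ∈ Module.support R M ∧
        depth (Localization.AtPrime p.asIdeal) (LocalizedModule p.asIdeal.primeCompl M) = n := by
  induction n with
  | zero =>
    intro M _ _ _ hne h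
    obtain ⟨p, hp, hle⟩ := (idealDepth_eq_zero_iff hne).mp h
    have := hp.isPrime
    have hsupp : (⟨p, hp.isPrime⟩ : PrimeSpectrum R) ∈ Module.support R M :=
      Module.mem_support_iff_of_finite.mpr
        (le_of_eq_of_le Submodule.annihilator_top.symm (IsAssociatedPrime.annihilator_le hp))
    refine ⟨⟨p, hp.isPrime⟩, hle, hsupp, ?_⟩
    have : Nontrivial (LocalizedModule p.primeCompl M) := Module.mem_support_iff.mp hsupp
    exact depth_eq_zero_iff.mpr
      (Module.associatedPrimes.mem_associatedPrimes_atPrime_of_mem_associatedPrimes hp)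
  | succ n ih =>
    intro M _ _ _ hne h
    obtain ⟨r, hr, reg⟩ := (one_le_idealDepth_iff hne).mp (by rw [h]; simp)
    have h1 := idealDepth_quotSMulTop_add_one M hr reg
    rw [h, Nat.cast_add, Nat.cast_one] at h1
    have h2 := (ENat.add_left_injective_of_ne_top ENat.one_ne_top) h1
    have hne' : I • (⊤ : Submodule R (QuotSMulTop r M)) ≠ ⊤ := fun h' => by
      rw [idealDepth_eq_top h'] at h2; exact ENat.top_ne_natCast n h2
    obtain ⟨p, hp, hs, hd⟩ := ih (QuotSMulTop r M) hne' h2
    refine ⟨p, hp, ?_, ?_⟩
    · rw [Module.support_quotSMulTop] at hs; exact hs.1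
    · rw [← depth_localized_quotSMulTop_add_one (M := M) p.asIdeal (hp hr) reg, hd]; simp

omit [IsNoetherianRing R] in
lemma exists_mem_support_of_smul_top_ne_top {I : Ideal R} (h : I • (⊤ : Submodule R M) ≠ ⊤) :
    ∃ p : PrimeSpectrum R, p ∈ Module.support R M ∧ I ≤ p.asIdeal := by
  have : Nontrivial (M ⧸ I • (⊤ : Submodule R M)) := Submodule.Quotient.nontrivial_iff.mpr h
  obtain ⟨p, hp⟩ := Module.nonempty_support_of_nontrivial (R := R) (M := M ⧸ I • (⊤ : Submodule R M))
  rw [Module.support_quotient] at hp
  exact ⟨p, hp.1, hp.2⟩

/-- The depth is finite unless `IM = M`. -/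
lemma idealDepth_ne_top {I : Ideal R} (h : I • (⊤ : Submodule R M) ≠ ⊤) :
    idealDepth I M ≠ ⊤ := by
  obtain ⟨p, hp, hI⟩ := exists_mem_support_of_smul_top_ne_top h
  have : Nontrivial (LocalizedModule p.asIdeal.primeCompl M) := Module.mem_support_iff.mp hp
  refine ne_top_of_le_ne_top ?_ (idealDepth_le_depth_atPrime p.asIdeal hI)
  intro htop
  have h1 := depth_le_ringKrullDim (R := Localization.AtPrime p.asIdeal)
    (M := LocalizedModule p.asIdeal.primeCompl M)
  rw [htop] at h1
  exact absurd (lt_of_le_of_lt h1 ringKrullDim_lt_top) (by simp)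

lemma exists_natCast_eq_idealDepth {I : Ideal R} (h : I • (⊤ : Submodule R M) ≠ ⊤) :
    ∃ n : ℕ, idealDepth I M = n := by
  obtain ⟨n, hn⟩ := ENat.ne_top_iff_exists.mp (idealDepth_ne_top h)
  exact ⟨n, hn.symm⟩

lemma depth_ne_top [IsLocalRing R] [Nontrivial M] : depth R M ≠ ⊤ :=
  idealDepth_ne_top maximalIdeal_smul_top_ne_top

variable (M) in
/-- The `I`-depth is the infimum of the depths at the primes containing `I`. -/
lemma idealDepth_eq_iInf [Small.{v} R] (I : Ideal R) : idealDepth I M =
    ⨅ (p : PrimeSpectrum R) (_ : I ≤ p.asIdeal),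
      depth (Localization.AtPrime p.asIdeal) (LocalizedModule p.asIdeal.primeCompl M) := by
  refine le_antisymm (le_iInf₂ fun p hp => idealDepth_le_depth_atPrime p.asIdeal hp) ?_
  by_cases h : I • (⊤ : Submodule R M) = ⊤
  · rw [idealDepth_eq_top h]; exact le_top
  · obtain ⟨n, hn⟩ := exists_natCast_eq_idealDepth h
    obtain ⟨p, hp, -, hd⟩ := exists_depth_atPrime_eq_idealDepth M h hn
    exact iInf₂_le_of_le p hp (le_of_eq (hd.trans hn.symm))

end DepthLocalization

section CM

variable {R : Type u} [CommRing R] [IsNoetherianRing R] [IsLocalRing R]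

omit [IsNoetherianRing R] in
lemma nontrivial_of_isCohenMacaulayModule {M : Type v} [AddCommGroup M] [Module R M]
    (h : IsCohenMacaulayModule R M) : Nontrivial M := by
  by_contra hn
  rw [not_nontrivial_iff_subsingleton] at hn
  rw [IsCohenMacaulayModule, Module.supportDim_eq_bot_of_subsingleton] at h
  exact WithBot.bot_ne_coe h

variable [Small.{v} R] {M : Type v} [AddCommGroup M] [Module R M] [Module.Finite R M]

lemma isCohenMacaulayModule_quotSMulTop_iff {r : R} (hr : r ∈ maximalIdeal R)
    (reg : IsSMulRegular M r) :
    IsCohenMacaulayModule R (QuotSMulTop r M) ↔ IsCohenMacaulayModule R M := by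
  rcases subsingleton_or_nontrivial M with hM | hM
  · exact ⟨fun h => absurd (nontrivial_of_isCohenMacaulayModule h) (not_nontrivial _),
      fun h => absurd (nontrivial_of_isCohenMacaulayModule h) (not_nontrivial _)⟩
  have h1 := Module.supportDim_quotSMulTop_succ_eq_supportDim reg hr
  have h2 : depth R (QuotSMulTop r M) + 1 = depth R M := idealDepth_quotSMulTop_add_one M hr reg
  rw [IsCohenMacaulayModule, IsCohenMacaulayModule, ← h1, ← h2]
  exact ⟨fun h => by rw [h]; simp, fun h => withBot_add_one_cancel (h.trans (by simp))⟩

omit [IsLocalRing R] [IsNoetherianRing R] [Small.{v} R] in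
lemma mem_support_of_mem_associatedPrimes {p : Ideal R} (hp : p ∈ associatedPrimes R M) :
    (⟨p, hp.isPrime⟩ : PrimeSpectrum R) ∈ Module.support R M :=
  Module.mem_support_iff_of_finite.mpr
    (le_of_eq_of_le Submodule.annihilator_top.symm (IsAssociatedPrime.annihilator_le hp))

omit [IsLocalRing R] [IsNoetherianRing R] [Small.{v} R] [Module.Finite R M] in
lemma supportDim_eq_of_support_eq {N : Type w} [AddCommGroup N] [Module R N]
    (h : Module.support R M = Module.support R N) :
    Module.supportDim R M = Module.supportDim R N := by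
  simp only [Module.supportDim]
  exact Order.krullDim_eq_of_orderIso (OrderIso.setCongr _ _ h)

omit [Small.{v} R] [Module.Finite R M] in
lemma exists_natCast_eq_supportDim [Nontrivial M] :
    ∃ n : ℕ, Module.supportDim R M = ((n : ℕ∞) : WithBot ℕ∞) := by
  cases h : Module.supportDim R M with
  | bot => exact absurd h (Module.supportDim_ne_bot_of_nontrivial R M)
  | coe d =>
    cases d using ENat.recTopCoe with
    | top =>
      have := (Module.supportDim_le_ringKrullDim R M).trans_lt (ringKrullDim_lt_top (R := R))
      rw [h] at this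
      exact absurd this (by simp)
    | coe d => exact ⟨d, rfl⟩

omit [IsLocalRing R] [IsNoetherianRing R] [Module.Finite R M] [Small.{v} R] in
lemma ringKrullDim_quotient_le_supportDim {p : PrimeSpectrum R} (hp : p ∈ Module.support R M) :
    ringKrullDim (R ⧸ p.asIdeal) ≤ Module.supportDim R M := by
  rw [← Module.supportDim_quotient_eq_ringKrullDim]
  refine Order.krullDim_le_of_strictMono (fun a => ⟨a.1, ?_⟩) (fun {_ _} h => h)
  have ha : (a : PrimeSpectrum R) ∈ PrimeSpectrum.zeroLocus (p.asIdeal : Set R) := by
    have h := (Module.support_eq_zeroLocus (R := R) (M := R ⧸ p.asIdeal))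
    rw [Ideal.annihilator_quotient] at h
    exact h.subset a.2
  exact Module.mem_support_mono (show p ≤ a.1 from ha) hp

omit [Small.{v} R] in
/-- Associated primes of a Cohen–Macaulay module have maximal coheight. -/
lemma ringKrullDim_quotient_eq_of_mem_associatedPrimes (h : IsCohenMacaulayModule R M)
    {p : Ideal R} (hp : p ∈ associatedPrimes R M) :
    ringKrullDim (R ⧸ p) = Module.supportDim R M :=
  by
  rw [IsCohenMacaulayModule] at h
  refine le_antisymm (ringKrullDim_quotient_le_supportDim (p := ⟨p, hp.isPrime⟩)
    (mem_support_of_mem_associatedPrimes hp)) ?_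
  rw [h]
  exact depth_le_ringKrullDim_quotient hp

/-- A Cohen–Macaulay module has no embedded associated primes. -/
lemma eq_of_le_of_mem_associatedPrimes (h : IsCohenMacaulayModule R M) {p : Ideal R}
    (hp : p ∈ associatedPrimes R M) {q : PrimeSpectrum R} (hq : q ∈ Module.support R M)
    (hle : q.asIdeal ≤ p) : q.asIdeal = p := by
  have := nontrivial_of_isCohenMacaulayModule h
  by_contra hne
  have hpp := hp.isPrime
  obtain ⟨x, hxp, hxq⟩ := SetLike.exists_of_lt (lt_of_le_of_ne hle hne)
  have hxm : x ∈ maximalIdeal R := le_maximalIdeal hpp.ne_top hxp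
  have hreg : IsSMulRegular (R ⧸ q.asIdeal) x := by
    rw [isSMulRegular_quotient_iff_mem_of_smul_mem]
    exact fun y hy => (q.isPrime.mem_or_mem hy).resolve_left hxq
  have : Nontrivial (R ⧸ q.asIdeal) := Ideal.Quotient.nontrivial_iff.mpr q.isPrime.ne_top
  have h1 := Module.supportDim_quotSMulTop_succ_eq_supportDim hreg hxm
  have h2 : ringKrullDim (R ⧸ p) ≤ Module.supportDim R (QuotSMulTop x (R ⧸ q.asIdeal)) := by
    refine ringKrullDim_quotient_le_supportDim (p := ⟨p, hpp⟩) ?_
    rw [Module.support_quotSMulTop, Module.support_eq_zeroLocus, Ideal.annihilator_quotient]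
    exact ⟨hle, by simpa using hxp⟩
  rw [Module.supportDim_quotient_eq_ringKrullDim] at h1
  have h3 := ringKrullDim_quotient_le_supportDim hq
  rw [← ringKrullDim_quotient_eq_of_mem_associatedPrimes h hp, ← h1] at h3
  have h4 := le_trans h3 h2
  have := nontrivial_quotSMulTop_of_mem_maximalIdeal (R ⧸ q.asIdeal) hxm
  obtain ⟨e, he⟩ := exists_natCast_eq_supportDim (R := R) (M := QuotSMulTop x (R ⧸ q.asIdeal))
  rw [he] at h4
  have h5 : e + 1 ≤ e := by exact_mod_cast h4
  omega

/-- Localization of CM modules and the dimension formula. -/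
theorem localized_isCohenMacaulayModule_aux : ∀ (n : ℕ) (M : Type v) [AddCommGroup M] [Module R M]
    [Module.Finite R M], IsCohenMacaulayModule R M → depth R M = n →
    ∀ p : PrimeSpectrum R, p ∈ Module.support R M →
      IsCohenMacaulayModule (Localization.AtPrime p.asIdeal)
        (LocalizedModule p.asIdeal.primeCompl M) ∧
      Module.supportDim (Localization.AtPrime p.asIdeal) (LocalizedModule p.asIdeal.primeCompl M) +
        ringKrullDim (R ⧸ p.asIdeal) = Module.supportDim R M := by
  intro n
  induction n using Nat.strong_induction_on with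
  | _ n IH =>
    intro M _ _ _ hCM hd p hp
    have := nontrivial_of_isCohenMacaulayModule hCM
    have : Nontrivial (LocalizedModule p.asIdeal.primeCompl M) := Module.mem_support_iff.mp hp
    by_cases hr : ∃ r ∈ p.asIdeal, IsSMulRegular M r
    · obtain ⟨r, hrp, reg⟩ := hr
      have hrm : r ∈ maximalIdeal R := le_maximalIdeal p.isPrime.ne_top hrp
      have h1 : depth R (QuotSMulTop r M) + 1 = n :=
        (idealDepth_quotSMulTop_add_one M hrm reg).trans hd
      obtain ⟨m, hm⟩ : ∃ m : ℕ, depth R (QuotSMulTop r M) = m :=
        have := nontrivial_quotSMulTop_of_mem_maximalIdeal M hrm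
        exists_natCast_eq_idealDepth maximalIdeal_smul_top_ne_top
      have hmn : m + 1 = n := by rw [hm] at h1; exact_mod_cast h1
      obtain ⟨ih1, ih2⟩ := IH m (by omega) (QuotSMulTop r M)
        ((isCohenMacaulayModule_quotSMulTop_iff hrm reg).mpr hCM) hm p
        (by rw [Module.support_quotSMulTop]; exact ⟨hp, by simpa using hrp⟩)
      have hr' : algebraMap R (Localization.AtPrime p.asIdeal) r ∈
          maximalIdeal (Localization.AtPrime p.asIdeal) := by
        rw [← Localization.AtPrime.map_eq_maximalIdeal]; exact Ideal.mem_map_of_mem _ hrp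
      have reg' : IsSMulRegular (LocalizedModule p.asIdeal.primeCompl M)
          (algebraMap R (Localization.AtPrime p.asIdeal) r) := by
        have := isWeaklyRegular_localizedModule p.asIdeal.primeCompl
          ((isWeaklyRegular_singleton_iff M r).mpr reg)
        simpa [isWeaklyRegular_singleton_iff] using this
      have hdim := Module.supportDim_quotSMulTop_succ_eq_supportDim reg' hr'
      rw [← Module.supportDim_eq_of_equiv
        (localizedQuotSMulTopEquiv p.asIdeal.primeCompl M r)] at hdim
      constructor
      · rw [IsCohenMacaulayModule] at ih1 ⊢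
        rw [← hdim, ← depth_localized_quotSMulTop_add_one (M := M) p.asIdeal hrp reg, ih1]
        simp
      · rw [← hdim, add_right_comm, ih2,
          Module.supportDim_quotSMulTop_succ_eq_supportDim reg hrm]
    · push Not at hr
      have hsub : (p.asIdeal : Set R) ⊆ ⋃ q ∈ associatedPrimes R M, (q : Set R) := by
        rw [biUnion_associatedPrimes_eq_compl_regular]
        exact fun r hr' => hr r hr'
      obtain ⟨q, hq, hle⟩ := (Ideal.subset_union_prime_finite (associatedPrimes.finite R M) ⊥ ⊥
        (fun p hp _ _ => hp.isPrime)).mp hsub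
      have hpq := eq_of_le_of_mem_associatedPrimes hCM hq hp hle
      subst hpq
      have hd0 : depth (Localization.AtPrime p.asIdeal)
          (LocalizedModule p.asIdeal.primeCompl M) = 0 :=
        depth_eq_zero_iff.mpr
          (Module.associatedPrimes.mem_associatedPrimes_atPrime_of_mem_associatedPrimes hq)
      have hs0 : Module.supportDim (Localization.AtPrime p.asIdeal)
          (LocalizedModule p.asIdeal.primeCompl M) = 0 := by
        refine le_antisymm ?_ (le_of_eq_of_le (by rw [hd0]; rfl) depth_le_supportDim)
        have : Subsingleton (Module.support (Localization.AtPrime p.asIdeal)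
            (LocalizedModule p.asIdeal.primeCompl M)) := by
          have key : ∀ q' ∈ Module.support (Localization.AtPrime p.asIdeal)
              (LocalizedModule p.asIdeal.primeCompl M),
              q'.asIdeal.comap (algebraMap R (Localization.AtPrime p.asIdeal)) = p.asIdeal := by
            intro q' hq'
            refine eq_of_le_of_mem_associatedPrimes hCM hq
              (q := ⟨_, q'.isPrime.comap _⟩) ?_ ?_
            · rw [Module.mem_support_iff_of_finite] at hq' ⊢
              intro a ha
              refine hq' (Module.mem_annihilator.mpr fun x => ?_)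
              induction x using LocalizedModule.induction_on with
              | h m s =>
                rw [algebraMap_smul, LocalizedModule.smul'_mk, Module.mem_annihilator.mp ha m,
                  LocalizedModule.zero_mk]
            · refine (Ideal.comap_mono (le_maximalIdeal q'.isPrime.ne_top)).trans ?_
              exact le_of_eq Localization.AtPrime.under_maximalIdeal
          refine ⟨fun a b => Subtype.ext (PrimeSpectrum.ext ?_)⟩
          have ha := IsLocalization.map_under p.asIdeal.primeCompl
            (Localization.AtPrime p.asIdeal) a.1.asIdeal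
          have hb := IsLocalization.map_under p.asIdeal.primeCompl
            (Localization.AtPrime p.asIdeal) b.1.asIdeal
          rw [← ha, ← hb]
          exact congrArg _ ((key _ a.2).trans (key _ b.2).symm)
        exact Order.krullDim_nonpos_of_subsingleton
      refine ⟨?_, ?_⟩
      · rw [IsCohenMacaulayModule, hs0, hd0]; rfl
      · rw [hs0, zero_add, ringKrullDim_quotient_eq_of_mem_associatedPrimes hCM hq]

variable (M) in
/-- Localizations of a Cohen–Macaulay module are Cohen–Macaulay. -/
lemma isCohenMacaulayModule_localized (h : IsCohenMacaulayModule R M) {p : PrimeSpectrum R}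
    (hp : p ∈ Module.support R M) :
    IsCohenMacaulayModule (Localization.AtPrime p.asIdeal)
      (LocalizedModule p.asIdeal.primeCompl M) := by
  have := nontrivial_of_isCohenMacaulayModule h
  obtain ⟨n, hn⟩ := exists_natCast_eq_idealDepth (maximalIdeal_smul_top_ne_top (R := R) (M := M))
  exact (localized_isCohenMacaulayModule_aux n M h hn p hp).1

variable (M) in
/-- `dim M_p + dim R⧸p = dim M` for a Cohen–Macaulay module. -/
lemma supportDim_localized_add (h : IsCohenMacaulayModule R M) {p : PrimeSpectrum R}
    (hp : p ∈ Module.support R M) :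
    Module.supportDim (Localization.AtPrime p.asIdeal)
      (LocalizedModule p.asIdeal.primeCompl M) + ringKrullDim (R ⧸ p.asIdeal) =
      Module.supportDim R M := by
  have := nontrivial_of_isCohenMacaulayModule h
  obtain ⟨n, hn⟩ := exists_natCast_eq_idealDepth (maximalIdeal_smul_top_ne_top (R := R) (M := M))
  exact (localized_isCohenMacaulayModule_aux n M h hn p hp).2

theorem supportDim_eq_quotient_add_idealDepth_aux {I : Ideal R} (hI : I ≤ maximalIdeal R) :
    ∀ (n : ℕ) (M : Type v) [AddCommGroup M] [Module R M] [Module.Finite R M],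
      IsCohenMacaulayModule R M → idealDepth I M = n →
      Module.supportDim R M = Module.supportDim R (M ⧸ I • (⊤ : Submodule R M)) + (n : ℕ∞) := by
  intro n
  induction n with
  | zero =>
    intro M _ _ _ hCM hd
    have := nontrivial_of_isCohenMacaulayModule hCM
    obtain ⟨p, hp, hle⟩ := (idealDepth_eq_zero_iff (smul_top_ne_top_of_isLocalRing hI)).mp hd
    rw [Nat.cast_zero, WithBot.coe_zero, add_zero]
    refine le_antisymm ?_ (Module.supportDim_le_of_surjective _ (Submodule.mkQ_surjective _))
    rw [← ringKrullDim_quotient_eq_of_mem_associatedPrimes hCM hp]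
    refine ringKrullDim_quotient_le_supportDim (p := ⟨p, hp.isPrime⟩) ?_
    rw [Module.support_quotient]
    exact ⟨mem_support_of_mem_associatedPrimes hp, hle⟩
  | succ n ih =>
    intro M _ _ _ hCM hd
    have := nontrivial_of_isCohenMacaulayModule hCM
    obtain ⟨r, hr, reg⟩ :=
      (one_le_idealDepth_iff (smul_top_ne_top_of_isLocalRing hI)).mp (by rw [hd]; simp)
    have h1 := idealDepth_quotSMulTop_add_one M hr reg
    rw [hd, Nat.cast_add, Nat.cast_one] at h1
    have := ih (QuotSMulTop r M) ((isCohenMacaulayModule_quotSMulTop_iff (hI hr) reg).mpr hCM)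
      ((ENat.add_left_injective_of_ne_top ENat.one_ne_top) h1)
    rw [← Module.supportDim_quotSMulTop_succ_eq_supportDim reg (hI hr), this,
      supportDim_eq_of_support_eq (M := QuotSMulTop r M ⧸ I • (⊤ : Submodule R (QuotSMulTop r M)))
        (N := M ⧸ I • (⊤ : Submodule R M)) ?_]
    · push_cast; rw [add_assoc]
    · rw [Module.support_quotient, Module.support_quotient, Module.support_quotSMulTop,
        Set.inter_assoc]
      congr 1
      rw [Set.inter_eq_right]
      exact fun q hq => by simpa using hq hr

variable (M) in
/-- `dim M = dim M⧸IM + depth_I M` for a Cohen–Macaulay module. -/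
lemma supportDim_eq_quotient_add_idealDepth (h : IsCohenMacaulayModule R M) {I : Ideal R}
    (hI : I ≤ maximalIdeal R) :
    Module.supportDim R M =
      Module.supportDim R (M ⧸ I • (⊤ : Submodule R M)) + (idealDepth I M : WithBot ℕ∞) := by
  have := nontrivial_of_isCohenMacaulayModule h
  obtain ⟨n, hn⟩ := exists_natCast_eq_idealDepth (smul_top_ne_top_of_isLocalRing (M := M) hI)
  rw [hn]
  exact supportDim_eq_quotient_add_idealDepth_aux hI n M h hn

end CM

section Ring

variable {R : Type u} [CommRing R]

lemma isCohenMacaulayModule_self [IsLocalRing R] [h : IsCohenMacaulayLocalRing R] :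
    IsCohenMacaulayModule R R :=
  h.supportDim_eq_depth

lemma ringKrullDim_eq_depth [IsLocalRing R] [h : IsCohenMacaulayLocalRing R] :
    ringKrullDim R = (depth R R : WithBot ℕ∞) := by
  rw [← Module.supportDim_self_eq_ringKrullDim]; exact h.supportDim_eq_depth

lemma isCohenMacaulayLocalRing_iff [IsNoetherianRing R] [IsLocalRing R] :
    IsCohenMacaulayLocalRing R ↔ ringKrullDim R = (depth R R : WithBot ℕ∞) := by
  refine ⟨fun h => ringKrullDim_eq_depth, fun h => ⟨?_⟩⟩
  rw [Module.supportDim_self_eq_ringKrullDim]; exact h

lemma supportDim_localizedSelf (p : Ideal R) [p.IsPrime] :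
    Module.supportDim (Localization.AtPrime p) (LocalizedModule p.primeCompl R) =
      (p.height : WithBot ℕ∞) := by
  rw [Module.supportDim_eq_of_equiv (localizedSelfEquiv p.primeCompl),
    Module.supportDim_self_eq_ringKrullDim, IsLocalization.AtPrime.ringKrullDim_eq_height p]

/-- Localizations of a Cohen–Macaulay local ring are Cohen–Macaulay. -/
lemma isCohenMacaulayLocalRing_atPrime [IsCohenMacaulayLocalRing R] (p : Ideal R) [hp : p.IsPrime] :
    IsCohenMacaulayLocalRing (Localization.AtPrime p) := by
  have : IsNoetherianRing (Localization.AtPrime p) :=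
    IsLocalization.isNoetherianRing p.primeCompl _ inferInstance
  have h := isCohenMacaulayModule_localized R isCohenMacaulayModule_self (p := ⟨p, hp⟩)
    (by rw [Module.support_of_algebra]; simp [show RingHom.ker (RingHom.id R) = ⊥ from rfl])
  rw [IsCohenMacaulayModule, Module.supportDim_eq_of_equiv (localizedSelfEquiv p.primeCompl),
    depth_congr (localizedSelfEquiv p.primeCompl)] at h
  exact ⟨h⟩

/-- A Cohen–Macaulay local ring is a Cohen–Macaulay ring. -/
lemma isCohenMacaulayRing_of_local [IsCohenMacaulayLocalRing R] : IsCohenMacaulayRing R :=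
  { isCohenMacaulayLocalRing_localization := fun p _ => isCohenMacaulayLocalRing_atPrime p }

/-- In a Cohen–Macaulay ring the depth of a proper ideal equals its height. -/
lemma idealDepth_eq_height [IsCohenMacaulayRing R] (I : Ideal R) :
    idealDepth I R = I.height := by
  have key : ∀ p : PrimeSpectrum R,
      depth (Localization.AtPrime p.asIdeal) (LocalizedModule p.asIdeal.primeCompl R) =
        p.asIdeal.height := by
    intro p
    have := IsCohenMacaulayRing.isCohenMacaulayLocalRing_localization (R := R) p.asIdeal
    have h := ringKrullDim_eq_depth (R := Localization.AtPrime p.asIdeal)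
    rw [IsLocalization.AtPrime.ringKrullDim_eq_height p.asIdeal] at h
    rw [depth_congr (localizedSelfEquiv p.asIdeal.primeCompl)]
    exact_mod_cast h.symm
  rw [idealDepth_eq_iInf R I]
  simp only [key]
  refine le_antisymm ?_ (le_iInf₂ fun p hp => Ideal.height_mono hp)
  rw [Ideal.height_eq_inf_minimalPrimes (I := I)]
  exact le_iInf₂ fun J hJ => iInf₂_le_of_le ⟨J, hJ.isPrime⟩ hJ.1.2 le_rfl

/-- A Noetherian ring in which depth equals height for primes is Cohen–Macaulay. -/
lemma isCohenMacaulayRing_of_idealDepth_eq_height [IsNoetherianRing R]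
    (h : ∀ p : Ideal R, p.IsPrime → idealDepth p R = p.height) : IsCohenMacaulayRing R where
  isCohenMacaulayLocalRing_localization p hp := by
    have : IsNoetherianRing (Localization.AtPrime p) :=
      IsLocalization.isNoetherianRing p.primeCompl _ inferInstance
    refine isCohenMacaulayLocalRing_iff.mpr (le_antisymm ?_ depth_le_ringKrullDim)
    rw [IsLocalization.AtPrime.ringKrullDim_eq_height p, ← h p hp,
      ← depth_congr (localizedSelfEquiv p.primeCompl)]
    exact WithBot.coe_le_coe.mpr (idealDepth_le_depth_atPrime p le_rfl)

end Ring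

end Groth.Agent.Depth
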