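import Groth.Agent.Depth.CM

/-!
# Depth along regular sequences and generators
-/

universe u

open RingTheory.Sequence LocCoh IsLocalRing Pointwise

namespace Groth.Agent.Depth

variable {R : Type u} [CommRing R] [IsNoetherianRing R]

lemma idealDepth_quot_ofList_add_length {I : Ideal R} : ∀ (rs : List R) (M : Type u)
    [AddCommGroup M] [Module R M] [Module.Finite R M], IsWeaklyRegular M rs → (∀ r ∈ rs, r ∈ I) →
    idealDepth I (M ⧸ Ideal.ofList rs • (⊤ : Submodule R M)) + rs.length = idealDepth I M := by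
  intro rs
  induction rs with
  | nil =>
    intro M _ _ _ _ _
    rw [List.length_nil, Nat.cast_zero, add_zero]
    exact idealDepth_congr (Submodule.quotEquivOfEqBot _
      (by rw [Ideal.ofList_nil, Submodule.bot_smul]))
  | cons r rs ih =>
    intro M _ _ _ h hmem
    rw [isWeaklyRegular_cons_iff] at h
    have h2 := ih (QuotSMulTop r M) h.2 fun x hx => hmem x (List.mem_cons_of_mem _ hx)
    rw [List.length_cons, Nat.cast_add, Nat.cast_one, ← add_assoc,
      idealDepth_congr (Submodule.quotOfListConsSMulTopEquivQuotSMulTopInner M r rs), h2]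
    exact idealDepth_quotSMulTop_add_one M (hmem r List.mem_cons_self) h.1

variable {M : Type u} [AddCommGroup M] [Module R M] [Module.Finite R M]

lemma length_eq_idealDepth_of_maximal {I : Ideal R} (hIM : I • (⊤ : Submodule R M) ≠ ⊤)
    {rs : List R} (h : IsWeaklyRegular M rs) (hmem : ∀ r ∈ rs, r ∈ I)
    (hmax : ∀ r ∈ I, ¬ IsWeaklyRegular M (rs ++ [r])) : (rs.length : ℕ∞) = idealDepth I M := by
  rw [← idealDepth_quot_ofList_add_length rs M h hmem]
  have hle : Ideal.ofList rs • (⊤ : Submodule R M) ≤ I • ⊤ :=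
    Submodule.smul_mono_left (Ideal.span_le.mpr hmem)
  have hne : I • (⊤ : Submodule R (M ⧸ Ideal.ofList rs • (⊤ : Submodule R M))) ≠ ⊤ := by
    intro h'
    refine hIM (top_le_iff.mp fun m _ => ?_)
    have hm : Submodule.Quotient.mk m ∈ I • (⊤ : Submodule R
        (M ⧸ Ideal.ofList rs • (⊤ : Submodule R M))) := h'.ge Submodule.mem_top
    rw [← Submodule.range_mkQ (Ideal.ofList rs • (⊤ : Submodule R M)), LinearMap.range_eq_map,
      ← Submodule.map_smul''] at hm
    obtain ⟨n, hn, hnm⟩ := hm
    have hd := (Submodule.Quotient.eq _).mp hnm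
    simpa using Submodule.sub_mem _ hn (hle hd)
  have h0 : idealDepth I (M ⧸ Ideal.ofList rs • (⊤ : Submodule R M)) = 0 := by
    by_contra h0
    rw [← Ne, ← Order.one_le_iff_ne_zero, one_le_idealDepth_iff hne] at h0
    obtain ⟨r, hr, hreg⟩ := h0
    refine hmax r hr ((isWeaklyRegular_append_iff M rs [r]).mpr ⟨h, ?_⟩)
    exact (isWeaklyRegular_singleton_iff _ r).mpr hreg
  rw [h0, zero_add]

lemma exists_maximal_extension {I : Ideal R} (hIM : I • (⊤ : Submodule R M) ≠ ⊤) :
    ∀ rs : List R, IsWeaklyRegular M rs → (∀ r ∈ rs, r ∈ I) →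
      ∃ rs' : List R, rs <+: rs' ∧ IsWeaklyRegular M rs' ∧ (∀ r ∈ rs', r ∈ I) ∧
        ∀ r ∈ I, ¬ IsWeaklyRegular M (rs' ++ [r]) := by
  obtain ⟨d, hd⟩ := exists_natCast_eq_idealDepth hIM
  have key : ∀ k, ∀ rs : List R, d ≤ rs.length + k → IsWeaklyRegular M rs → (∀ r ∈ rs, r ∈ I) →
      ∃ rs' : List R, rs <+: rs' ∧ IsWeaklyRegular M rs' ∧ (∀ r ∈ rs', r ∈ I) ∧
        ∀ r ∈ I, ¬ IsWeaklyRegular M (rs' ++ [r]) := by
    intro k
    induction k with
    | zero =>
      intro rs hk h hmem
      refine ⟨rs, List.prefix_rfl, h, hmem, fun r hr hreg => ?_⟩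
      have := le_idealDepth_of_isRegular (isRegular_of_isWeaklyRegular hIM hreg
        (fun x hx => by
          rcases List.mem_append.mp hx with h' | h'
          · exact hmem x h'
          · exact (List.mem_singleton.mp h') ▸ hr))
        (fun x hx => by
          rcases List.mem_append.mp hx with h' | h'
          · exact hmem x h'
          · exact (List.mem_singleton.mp h') ▸ hr)
      rw [hd, Nat.cast_le, List.length_append, List.length_singleton] at this
      omega
    | succ k ih =>
      intro rs hk h hmem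
      by_cases hex : ∃ r ∈ I, IsWeaklyRegular M (rs ++ [r])
      · obtain ⟨r, hr, hreg⟩ := hex
        have hmem' : ∀ x ∈ rs ++ [r], x ∈ I := by
          intro x hx
          rcases List.mem_append.mp hx with h' | h'
          · exact hmem x h'
          · exact (List.mem_singleton.mp h') ▸ hr
        obtain ⟨rs', h1, h2, h3, h4⟩ := ih (rs ++ [r])
          (by rw [List.length_append, List.length_singleton]; omega) hreg hmem'
        exact ⟨rs', (List.prefix_append rs [r]).trans h1, h2, h3, h4⟩
      · push Not at hex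
        exact ⟨rs, List.prefix_rfl, h, hmem, hex⟩
  exact fun rs => key d rs (Nat.le_add_left _ _)

variable [IsLocalRing R]

/-- Adding one element to an ideal raises the depth by at most one. -/
lemma idealDepth_sup_span_singleton_le [Nontrivial M] {J : Ideal R} (hJ : J ≤ maximalIdeal R)
    {x : R} (hx : x ∈ maximalIdeal R) :
    idealDepth (J ⊔ Ideal.span {x}) M ≤ idealDepth J M + 1 := by
  set I := J ⊔ Ideal.span {x}
  have hI : I ≤ maximalIdeal R := sup_le hJ ((Ideal.span_singleton_le_iff_mem _).mpr hx)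
  have hJM : J • (⊤ : Submodule R M) ≠ ⊤ := fun h => maximalIdeal_smul_top_ne_top
    (R := R) (M := M) (top_le_iff.mp (h.ge.trans (Submodule.smul_mono_left hJ)))
  obtain ⟨n, hn⟩ := exists_natCast_eq_idealDepth hJM
  obtain ⟨rs, hl, hmem, hreg⟩ := (le_idealDepth_iff_exists hJM).mp hn.ge
  have hmem' : ∀ r ∈ rs, r ∈ I := fun r hr => le_sup_left (a := J) (hmem r hr)
  have e1 := idealDepth_quot_ofList_add_length rs M hreg hmem
  rw [← idealDepth_quot_ofList_add_length rs M hreg hmem', ← e1, add_right_comm]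
  gcongr
  rw [hn, hl] at e1
  have h0 : idealDepth J (M ⧸ Ideal.ofList rs • (⊤ : Submodule R M)) = 0 :=
    (ENat.add_left_injective_of_ne_top (ENat.natCast_ne_top n)) (by simpa using e1)
  set Q := M ⧸ Ideal.ofList rs • (⊤ : Submodule R M)
  have : Nontrivial Q := Submodule.Quotient.nontrivial_iff.mpr fun h =>
    hJM (top_le_iff.mp (h.ge.trans (Submodule.smul_mono_left (Ideal.span_le.mpr hmem))))
  rw [h0, zero_add]
  have hIQ : I • (⊤ : Submodule R Q) ≠ ⊤ := fun h => maximalIdeal_smul_top_ne_top
    (R := R) (M := Q) (top_le_iff.mp (h.ge.trans (Submodule.smul_mono_left hI)))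
  have hJQ : J • (⊤ : Submodule R Q) ≠ ⊤ := fun h => maximalIdeal_smul_top_ne_top
    (R := R) (M := Q) (top_le_iff.mp (h.ge.trans (Submodule.smul_mono_left hJ)))
  by_contra hlt
  have h2 : ((2 : ℕ) : ℕ∞) ≤ idealDepth I Q := Order.add_one_le_of_lt (not_le.mp hlt)
  obtain ⟨l, hl2, hlmem, hlreg⟩ := (le_idealDepth_iff_exists hIQ).mp h2
  obtain ⟨y, z, rfl⟩ := List.length_eq_two.mp hl2
  rw [isWeaklyRegular_cons_iff, isWeaklyRegular_singleton_iff] at hlreg
  obtain ⟨hy, hz⟩ := hlreg
  obtain ⟨j, hj, ax, hax, hjax⟩ := Submodule.mem_sup.mp (hlmem y (by simp))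
  obtain ⟨a, rfl⟩ := Ideal.mem_span_singleton'.mp hax
  obtain ⟨j', hj', bx, hbx, hjbx⟩ := Submodule.mem_sup.mp (hlmem z (by simp))
  obtain ⟨b, rfl⟩ := Ideal.mem_span_singleton'.mp hbx
  let P : Submodule R Q := Submodule.torsionBySet R Q (J : Set R)
  have hP : ∀ {w : Q}, w ∈ P ↔ ∀ r ∈ J, r • w = 0 := fun {w} =>
    ⟨fun h r hr => (Submodule.mem_torsionBySet_iff _ _).mp h ⟨r, hr⟩,
      fun h => (Submodule.mem_torsionBySet_iff _ _).mpr fun r => h r r.2⟩
  have hyP : ∀ w ∈ P, y • w = x • a • w := fun w hw => by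
    rw [← hjax, add_smul, hP.mp hw j hj, zero_add, mul_comm, mul_smul]
  have hcancel : ∀ w ∈ P, (∃ v ∈ P, x • w = y • v) → ∃ v ∈ P, w = y • v := by
    rintro w hw ⟨v, -, hv⟩
    have hzw : z • (Submodule.Quotient.mk w : QuotSMulTop y Q) = 0 := by
      rw [← Submodule.Quotient.mk_smul, Submodule.Quotient.mk_eq_zero, ← hjbx, add_smul,
        hP.mp hw j' hj', zero_add, mul_smul, hv, smul_comm]
      exact Submodule.smul_mem_pointwise_smul _ _ _ Submodule.mem_top
    obtain ⟨q, -, rfl⟩ := (Submodule.mem_smul_pointwise_iff_exists _ _ _).mp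
      ((Submodule.Quotient.mk_eq_zero _).mp (hz.right_eq_zero_of_smul hzw))
    refine ⟨q, hP.mpr fun r hr => hy.right_eq_zero_of_smul ?_, rfl⟩
    rw [smul_comm]
    exact hP.mp hw r hr
  let aP : Submodule R Q := P.map (LinearMap.lsmul R Q a)
  have haP : aP = ⊥ := by
    refine Submodule.eq_bot_of_le_smul_of_le_jacobson_bot (Ideal.span {x}) aP
      (IsNoetherian.noetherian _) ?_ (((Ideal.span_singleton_le_iff_mem _).mpr hx).trans
        (maximalIdeal_le_jacobson _))
    rintro _ ⟨w, hw, rfl⟩
    obtain ⟨v, hv, hav⟩ := hcancel (a • w) (P.smul_mem a hw) ⟨w, hw, (hyP w hw).symm⟩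
    rw [LinearMap.lsmul_apply, hav, hyP v hv]
    exact Submodule.smul_mem_smul (Ideal.mem_span_singleton_self x) ⟨v, hv, rfl⟩
  obtain ⟨p, hp, hJp⟩ := (idealDepth_eq_zero_iff hJQ).mp h0
  obtain ⟨hpp, f, hf⟩ := (isAssociatedPrime_iff_exists_injective_linearMap p Q).mp hp
  have hw : f (Submodule.Quotient.mk (1 : R)) ∈ P := hP.mpr fun r hr => by
    rw [← map_smul, ← Submodule.Quotient.mk_smul, (Submodule.Quotient.mk_eq_zero p).mpr, map_zero]
    rw [smul_eq_mul, mul_one]
    exact hJp hr
  have h1 : a • f (Submodule.Quotient.mk (1 : R)) = 0 :=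
    (Submodule.mem_bot R).mp (haP ▸ (⟨_, hw, rfl⟩ : a • _ ∈ aP))
  have h3 : f (Submodule.Quotient.mk (1 : R)) = 0 :=
    hy.right_eq_zero_of_smul (by rw [hyP _ hw, h1, smul_zero])
  exact hpp.ne_top ((Ideal.eq_top_iff_one p).mpr
    ((Submodule.Quotient.mk_eq_zero p).mp (hf (h3.trans (map_zero f).symm))))

lemma idealDepth_ofList_le_length [Nontrivial M] (xs : List R) :
    (∀ x ∈ xs, x ∈ maximalIdeal R) → idealDepth (Ideal.ofList xs) M ≤ xs.length := by
  induction xs using List.reverseRecOn with
  | nil =>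
    intro _
    rw [List.length_nil, Nat.cast_zero, nonpos_iff_eq_zero]
    obtain ⟨p, hp⟩ := associatedPrimes.nonempty R M
    exact (idealDepth_eq_zero_iff (by simp [bot_ne_top])).mpr ⟨p, hp, by simp⟩
  | append_singleton l x ih =>
    intro hmem
    rw [Ideal.ofList_append, Ideal.ofList_singleton, List.length_append, List.length_singleton,
      Nat.cast_add, Nat.cast_one]
    have hl : ∀ y ∈ l, y ∈ maximalIdeal R := fun y hy => hmem y (List.mem_append_left _ hy)
    exact (idealDepth_sup_span_singleton_le (Ideal.span_le.mpr hl)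
      (hmem x (by simp))).trans (by gcongr; exact ih hl)

lemma idealDepth_ofList_eq_length_iff [Nontrivial M] (xs : List R) :
    (∀ x ∈ xs, x ∈ maximalIdeal R) →
      (idealDepth (Ideal.ofList xs) M = xs.length ↔ IsWeaklyRegular M xs) := by
  intro hxs
  constructor
  · induction xs using List.reverseRecOn with
    | nil => exact fun _ => .nil R M
    | append_singleton l x ih =>
      intro h
      rw [Ideal.ofList_append, Ideal.ofList_singleton, List.length_append, List.length_singleton,
        Nat.cast_add, Nat.cast_one] at h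
      have hl : ∀ y ∈ l, y ∈ maximalIdeal R := fun y hy => hxs y (List.mem_append_left _ hy)
      have hx : x ∈ maximalIdeal R := hxs x (by simp)
      have hle := idealDepth_ofList_le_length (M := M) l hl
      have hge := h ▸ idealDepth_sup_span_singleton_le (M := M) (Ideal.span_le.mpr hl) hx
      have heq : idealDepth (Ideal.ofList l) M = l.length :=
        le_antisymm hle ((ENat.add_le_add_iff_right ENat.one_ne_top).mp hge)
      have hreg := ih hl heq
      refine (isWeaklyRegular_append_iff M l [x]).mpr ⟨hreg, ?_⟩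
      rw [isWeaklyRegular_singleton_iff]
      have h1 := idealDepth_quot_ofList_add_length (I := Ideal.ofList l ⊔ Ideal.span {x}) l M hreg
        fun r hr => le_sup_left (a := Ideal.ofList l) (Ideal.subset_span hr)
      rw [h, add_comm (l.length : ℕ∞) 1] at h1
      have h2 := ENat.add_left_injective_of_ne_top (ENat.natCast_ne_top l.length) h1
      have hne : (Ideal.ofList l ⊔ Ideal.span {x}) •
          (⊤ : Submodule R (M ⧸ Ideal.ofList l • (⊤ : Submodule R M))) ≠ ⊤ := by
        intro h'
        rw [idealDepth_eq_top h'] at h2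
        exact ENat.top_ne_one h2
      obtain ⟨y, hy, hyreg⟩ := (one_le_idealDepth_iff hne).mp h2.ge
      obtain ⟨j, hj, ax, hax, rfl⟩ := Submodule.mem_sup.mp hy
      obtain ⟨a, rfl⟩ := Ideal.mem_span_singleton'.mp hax
      intro u v huv
      apply hyreg
      have hjz : ∀ w : M ⧸ Ideal.ofList l • (⊤ : Submodule R M), j • w = 0 := by
        intro w
        obtain ⟨m, rfl⟩ := Submodule.Quotient.mk_surjective _ w
        rw [← Submodule.Quotient.mk_smul, Submodule.Quotient.mk_eq_zero]
        exact Submodule.smul_mem_smul hj Submodule.mem_top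
      simp only [add_smul, hjz, zero_add, mul_smul]
      exact congrArg (a • ·) huv
  · intro h
    refine le_antisymm (idealDepth_ofList_le_length xs hxs) ?_
    exact le_idealDepth_of_isWeaklyRegular h fun r hr => Ideal.subset_span hr

end Groth.Agent.Depth
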