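import Groth.Agent.Depth.Change
import Groth.Agent.Depth.CM
import Mathlib.RingTheory.Localization.Ideal
import Mathlib.RingTheory.Ideal.Height

/-!
# Depth of localisations: `depth M_s ≤ depth M_p + height (s/p)`
-/

universe u

open LocCoh IsLocalRing CategoryTheory Abelian

namespace Groth.Agent.Depth

/-- `depth M ≤ depth_q M + dim R ⧸ q`. -/
lemma depth_le_idealDepth_add {A : Type u} [CommRing A] [IsNoetherianRing A] [IsLocalRing A]
    (M : Type u) [AddCommGroup M] [Module A M] [Module.Finite A M] (q : Ideal A) {d : ℕ}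
    (hd : ringKrullDim (A ⧸ q) ≤ (d : ℕ∞)) : depth A M ≤ idealDepth q M + d := by
  refine le_of_forall_imp fun n hn => ?_
  by_cases hnd : n ≤ d
  · exact (Nat.cast_le.mpr hnd).trans le_add_self
  have h : ((n - d : ℕ) : ℕ∞) ≤ idealDepth q M := by
    rw [le_idealDepth_iff_ext_quot]
    intro i hi
    exact subsingleton_ext_of_add_supportDim_lt_depth M d (A ⧸ q)
      (by rw [Module.supportDim_quotient_eq_ringKrullDim]; exact hd) i
      (lt_of_lt_of_le (Nat.cast_lt.mpr (by omega)) hn)
  calc (n : ℕ∞) = ((n - d : ℕ) : ℕ∞) + (d : ℕ∞) := by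
        rw [← Nat.cast_add]; congr 1; omega
    _ ≤ _ := add_le_add h le_rfl

variable {R : Type u} [CommRing R]

/-- `(M_S)_T ≅ M_T` for `S ≤ T`. -/
lemma nonempty_localized_localized (M : Type u) [AddCommGroup M] [Module R M] {S T : Submonoid R}
    (hST : S ≤ T) : Nonempty (LocalizedModule T M ≃ₗ[Localization T]
      LocalizedModule T (LocalizedModule S M)) := by
  refine ⟨LinearEquiv.ofBijective (LocalizedModule.map T (LocalizedModule.mkLinearMap S M))
    ⟨fun x y h => ?_, fun z => ?_⟩⟩
  · rw [← sub_eq_zero] at h ⊢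
    rw [← map_sub] at h
    generalize x - y = w at h ⊢
    induction w using LocalizedModule.induction_on with
    | h m t =>
      rw [LocalizedModule.map_mk, ← LocalizedModule.zero_mk 1, LocalizedModule.mk_eq] at h
      obtain ⟨u, hu⟩ := h
      simp only [Submonoid.smul_def, LocalizedModule.mkLinearMap_apply, LocalizedModule.smul'_mk,
        smul_zero, one_smul] at hu
      rw [← LocalizedModule.zero_mk 1, LocalizedModule.mk_eq] at hu
      obtain ⟨v, hv⟩ := hu
      rw [← LocalizedModule.zero_mk 1, LocalizedModule.mk_eq]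
      refine ⟨⟨(v : R) * u, mul_mem (hST v.2) u.2⟩, ?_⟩
      simp only [Submonoid.smul_def, smul_zero, one_smul] at hv ⊢
      rw [mul_smul, hv]
  · induction z using LocalizedModule.induction_on with
    | h w t =>
      induction w using LocalizedModule.induction_on with
      | h m v =>
        refine ⟨LocalizedModule.mk m (⟨v, hST v.2⟩ * t), ?_⟩
        rw [LocalizedModule.map_mk, LocalizedModule.mk_eq]
        refine ⟨1, ?_⟩
        simp only [Submonoid.smul_def, LocalizedModule.mkLinearMap_apply, LocalizedModule.smul'_mk,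
          one_smul, Submonoid.coe_mul]
        rw [LocalizedModule.mk_eq]
        exact ⟨1, by simp [Submonoid.smul_def, mul_smul]⟩

variable [IsNoetherianRing R] (M : Type u) [AddCommGroup M] [Module R M] [Module.Finite R M]

/-- `depth M_s ≤ depth M_p + height (s/p)`. -/
theorem depth_localization_le (p s : Ideal R) [p.IsPrime] [s.IsPrime] (hps : p ≤ s) :
    depth (Localization.AtPrime s) (LocalizedModule s.primeCompl M) ≤
      depth (Localization.AtPrime p) (LocalizedModule p.primeCompl M) +
        (s.map (Ideal.Quotient.mk p)).height := by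
  cases hh : (s.map (Ideal.Quotient.mk p)).height using ENat.recTopCoe with
  | top => exact le_top.trans_eq (by simp)
  | coe d =>
  set A := Localization.AtPrime s
  set q : Ideal A := p.map (algebraMap R A)
  have : (s.map (Ideal.Quotient.mk p)).IsPrime :=
    Ideal.map_isPrime_of_surjective Ideal.Quotient.mk_surjective (by rwa [Ideal.mk_ker])
  have hsub : Algebra.algebraMapSubmonoid (R ⧸ p) s.primeCompl =
      (s.map (Ideal.Quotient.mk p)).primeCompl := by
    ext x
    obtain ⟨x, rfl⟩ := Ideal.Quotient.mk_surjective x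
    constructor
    · rintro ⟨y, hy, hyx⟩ hmem
      have hyx' : Ideal.Quotient.mk p x = Ideal.Quotient.mk p y := hyx.symm
      rw [hyx', SetLike.mem_coe, ← Ideal.mem_comap, Ideal.comap_map_of_surjective _ Ideal.Quotient.mk_surjective,
        ← RingHom.ker_eq_comap_bot, Ideal.mk_ker, sup_of_le_left hps] at hmem
      exact hy hmem
    · exact fun hmem => ⟨x, fun hx => hmem (Ideal.mem_map_of_mem _ hx), rfl⟩
  have : IsLocalization.AtPrime (A ⧸ q) (s.map (Ideal.Quotient.mk p)) := by
    change IsLocalization (s.map (Ideal.Quotient.mk p)).primeCompl (A ⧸ q)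
    rw [← hsub]
    infer_instance
  have hdim : ringKrullDim (A ⧸ q) = ((d : ℕ∞) : WithBot ℕ∞) := by
    rw [IsLocalization.AtPrime.ringKrullDim_eq_height (s.map (Ideal.Quotient.mk p)) (A ⧸ q), hh]
  refine (depth_le_idealDepth_add (LocalizedModule s.primeCompl M) q hdim.le).trans
    (add_le_add ?_ le_rfl)
  rw [idealDepth_map_eq]
  refine (idealDepth_le_map_localizedModule p.primeCompl).trans ?_
  obtain ⟨e⟩ := nonempty_localized_localized M
    (show s.primeCompl ≤ p.primeCompl from fun x hx hxp => hx (hps hxp))
  rw [Localization.AtPrime.map_eq_maximalIdeal, depth, ← idealDepth_congr e]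

end Groth.Agent.Depth
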