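import Groth.Agent.Depth.Basic
import Mathlib.Algebra.Category.ModuleCat.Ext.Finite
import Mathlib.RingTheory.Localization.BaseChange
import Mathlib.RingTheory.Ideal.AssociatedPrime.Localization
import Mathlib.RingTheory.LocalRing.RingHom.Basic

/-!
# Depth: change of rings, localization, Ischebeck's lemma
-/

universe u v w

open RingTheory.Sequence CategoryTheory Abelian Pointwise IsLocalRing

namespace Groth.Agent.Depth

open LocCoh

section ChangeOfRings

variable {R : Type u} [CommRing R] {S : Type w} [CommRing S] [Algebra R S] {I : Ideal R}

variable {M : Type v} [AddCommGroup M] [Module R M] [Module S M] [IsScalarTower R S M]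

lemma map_smul_top_eq_top_iff :
    I.map (algebraMap R S) • (⊤ : Submodule S M) = ⊤ ↔ I • (⊤ : Submodule R M) = ⊤ := by
  rw [← Submodule.restrictScalars_inj R S M, Ideal.smul_restrictScalars,
    Submodule.restrictScalars_top]

lemma exists_isWeaklyRegular_map [IsNoetherianRing S] :
    ∀ (n : ℕ) (N : Type w) [AddCommGroup N] [Module S N] [Module.Finite S N],
      (n : ℕ∞) ≤ idealDepth (I.map (algebraMap R S)) N →
      I.map (algebraMap R S) • (⊤ : Submodule S N) ≠ ⊤ →
      ∃ rs : List R, rs.length = n ∧ (∀ r ∈ rs, r ∈ I) ∧
        IsWeaklyRegular N (rs.map (algebraMap R S)) := by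
  intro n
  induction n with
  | zero => exact fun N _ _ _ _ _ => ⟨[], rfl, by simp, .nil S N⟩
  | succ n ih =>
    intro N _ _ _ hn hne
    obtain ⟨r, hr, hreg⟩ : ∃ r ∈ I, IsSMulRegular N (algebraMap R S r) := by
      by_contra! h
      have h0 : idealDepth (I.map (algebraMap R S)) N = 0 := by
        rw [idealDepth_eq_zero_iff hne]
        have hsub : (I : Set R) ⊆ ⋃ q ∈ associatedPrimes S N,
            (algebraMap R S ⁻¹' (q : Set S)) := by
          intro r hr
          have : algebraMap R S r ∈ ⋃ q ∈ associatedPrimes S N, (q : Set S) := by
            rw [biUnion_associatedPrimes_eq_compl_regular]; exact h r hr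
          simpa using this
        obtain ⟨q, hq, hle⟩ := (Ideal.subset_union_prime_finite (associatedPrimes.finite S N) ⊥ ⊥
          (f := fun q => q.comap (algebraMap R S))
          (fun p hp _ _ => hp.isPrime.comap _)).mp hsub
        exact ⟨q, hq, Ideal.map_le_iff_le_comap.mpr hle⟩
      rw [h0] at hn
      exact absurd hn (by simp)
    have hr' := Ideal.mem_map_of_mem (algebraMap R S) hr
    have hd := idealDepth_quotSMulTop_add_one (I := I.map (algebraMap R S)) N hr' hreg
    rw [← hd, Nat.cast_add, Nat.cast_one] at hn
    have hne' : I.map (algebraMap R S) •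
        (⊤ : Submodule S (QuotSMulTop (algebraMap R S r) N)) ≠ ⊤ := by
      intro h
      apply hne
      have := congrArg (Submodule.comap (Submodule.mkQ _)) h
      simpa [Submodule.comap_smul_top_of_surjective (I.map (algebraMap R S)) _
        (Submodule.mkQ_surjective _),
        Submodule.smul_mono_left ((Ideal.span_singleton_le_iff_mem _).mpr hr'),
        ← Submodule.ideal_span_singleton_smul] using this
    obtain ⟨rs, hl, hm, hw⟩ := ih _ ((ENat.add_le_add_iff_right ENat.one_ne_top).mp hn) hne'
    exact ⟨r :: rs, by simp [hl], by simpa [hr] using hm,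
      (isWeaklyRegular_cons_iff N _ _).mpr ⟨hreg, hw⟩⟩

/-- The `I S`-depth over `S` of a finite `S`-module equals its `I`-depth over `R`. -/
lemma idealDepth_map_eq [IsNoetherianRing S] [Module.Finite S M] :
    idealDepth (I.map (algebraMap R S)) M = idealDepth I M := by
  by_cases h : I • (⊤ : Submodule R M) = ⊤
  · rw [idealDepth_eq_top h, idealDepth_eq_top (map_smul_top_eq_top_iff.mpr h)]
  · have h' : I.map (algebraMap R S) • (⊤ : Submodule S M) ≠ ⊤ :=
      fun h' => h (map_smul_top_eq_top_iff.mp h')
    have : Small.{w} M := Module.Finite.small S M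
    let e : M ≃ₗ[S] Shrink.{w} M := (Shrink.linearEquiv S M).symm
    refine eq_of_forall_le_iff fun n => ?_
    constructor
    · intro hn
      rw [idealDepth_congr e] at hn
      have := Module.Finite.equiv e
      obtain ⟨rs, hl, hm, hw⟩ := exists_isWeaklyRegular_map n (Shrink.{w} M) hn
        (fun h'' => h' ((smul_top_eq_top_congr e).mpr h''))
      rw [← e.isWeaklyRegular_congr, isWeaklyRegular_map_algebraMap_iff] at hw
      exact hl ▸ le_idealDepth_of_isWeaklyRegular hw hm
    · intro hn
      obtain ⟨rs, hl, hm, hw⟩ := (le_idealDepth_iff_exists h).mp hn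
      rw [← isWeaklyRegular_map_algebraMap_iff (S := S)] at hw
      rw [← hl, ← List.length_map (algebraMap R S)]
      refine le_idealDepth_of_isWeaklyRegular hw ?_
      simpa using fun a ha => Ideal.mem_map_of_mem _ (hm a ha)

lemma depth_eq_of_map_maximalIdeal [IsLocalRing R] [IsLocalRing S] [IsNoetherianRing S]
    [Module.Finite S M] (h : (maximalIdeal R).map (algebraMap R S) = maximalIdeal S) :
    depth S M = depth R M := by
  rw [depth, depth, ← h, idealDepth_map_eq]

lemma map_maximalIdeal_of_surjective [IsLocalRing R] [IsLocalRing S]
    (hf : Function.Surjective (algebraMap R S)) :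
    (maximalIdeal R).map (algebraMap R S) = maximalIdeal S := by
  have : IsLocalHom (algebraMap R S) := hf.isLocalHom _
  refine le_antisymm (((IsLocalRing.local_hom_TFAE (algebraMap R S)).out 0 2).mp ‹_›) ?_
  intro y hy
  obtain ⟨x, rfl⟩ := hf y
  exact Ideal.mem_map_of_mem _ (fun hx => hy (hx.map _))

/-- The depth does not change along a surjection of local rings. -/
lemma depth_eq_of_surjective [IsLocalRing R] [IsLocalRing S] [IsNoetherianRing S]
    [Module.Finite S M] (hf : Function.Surjective (algebraMap R S)) :
    depth S M = depth R M :=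
  depth_eq_of_map_maximalIdeal (map_maximalIdeal_of_surjective hf)

end ChangeOfRings

section Localization

variable {R : Type u} [CommRing R] {I : Ideal R} {M : Type v} [AddCommGroup M] [Module R M]

lemma isWeaklyRegular_localizedModule (S : Submonoid R) {rs : List R} (h : IsWeaklyRegular M rs) :
    IsWeaklyRegular (LocalizedModule S M) (rs.map (algebraMap R (Localization S))) := by
  rw [isWeaklyRegular_map_algebraMap_iff,
    ((LocalizedModule.equivTensorProduct S M).restrictScalars R).isWeaklyRegular_congr]
  exact h.isWeaklyRegular_lTensor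

/-- Depth can only go up under localization. -/
lemma idealDepth_le_map_localizedModule (S : Submonoid R) :
    idealDepth I M ≤ idealDepth (I.map (algebraMap R (Localization S))) (LocalizedModule S M) := by
  by_cases h' : I.map (algebraMap R (Localization S)) •
      (⊤ : Submodule (Localization S) (LocalizedModule S M)) = ⊤
  · rw [idealDepth_eq_top h']; exact le_top
  have h : I • (⊤ : Submodule R M) ≠ ⊤ := by
    intro h
    refine h' (map_smul_top_eq_top_iff.mpr (eq_top_iff.mpr ?_))
    rintro x -
    induction x using LocalizedModule.induction_on with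
    | h m s =>
      have hm : LocalizedModule.mk m (1 : S) ∈
          I • (⊤ : Submodule R (LocalizedModule S M)) := by
        have hm' : m ∈ I • (⊤ : Submodule R M) := by rw [h]; trivial
        have := Submodule.mem_map_of_mem (f := LocalizedModule.mkLinearMap S M) hm'
        rw [Submodule.map_smul''] at this
        exact SetLike.le_def.mp (smul_mono_right I le_top) this
      have hx : LocalizedModule.mk m s =
          (Localization.mk 1 s : Localization S) • LocalizedModule.mk m (1 : S) := by
        simp [LocalizedModule.mk_smul_mk]
      rw [hx]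
      let l : LocalizedModule S M →ₗ[R] LocalizedModule S M :=
        (LinearMap.lsmul (Localization S) (LocalizedModule S M)
          (Localization.mk 1 s)).restrictScalars R
      have := Submodule.mem_map_of_mem (f := l) hm
      rw [Submodule.map_smul''] at this
      exact SetLike.le_def.mp (smul_mono_right I le_top) this
  refine le_of_forall_imp fun n hn => ?_
  obtain ⟨rs, hl, hm, hw⟩ := (le_idealDepth_iff_exists h).mp hn
  rw [← hl, ← List.length_map (algebraMap R (Localization S))]
  refine le_idealDepth_of_isWeaklyRegular (isWeaklyRegular_localizedModule S hw) ?_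
  simpa using fun a ha => Ideal.mem_map_of_mem _ (hm a ha)

/-- For `I ≤ p`, the `I`-depth is at most the depth at `p`. -/
lemma idealDepth_le_depth_atPrime [Module.Finite R M] (p : Ideal R) [p.IsPrime] (hp : I ≤ p) :
    idealDepth I M ≤ depth (Localization.AtPrime p) (LocalizedModule p.primeCompl M) := by
  refine (idealDepth_le_map_localizedModule p.primeCompl).trans ?_
  cases subsingleton_or_nontrivial (LocalizedModule p.primeCompl M) with
  | inl h => rw [depth, idealDepth_of_subsingleton, idealDepth_of_subsingleton]
  | inr h =>
    refine idealDepth_mono ?_ maximalIdeal_smul_top_ne_top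
    rw [← Localization.AtPrime.map_eq_maximalIdeal]
    exact Ideal.map_mono hp

end Localization

section Ischebeck

variable {R : Type u} [CommRing R] [IsNoetherianRing R] [IsLocalRing R]

/-- Ischebeck: `Ext^i(N, M) = 0` for `i + dim N < depth M`. -/
theorem subsingleton_ext_of_add_supportDim_lt_depth (M : Type u) [AddCommGroup M] [Module R M]
    [Module.Finite R M] : ∀ (d : ℕ) (N : Type u) [AddCommGroup N] [Module R N] [Module.Finite R N],
      Module.supportDim R N ≤ (d : ℕ∞) → ∀ i : ℕ, ((i + d : ℕ) : ℕ∞) < depth R M →
      Subsingleton (Ext (ModuleCat.of R N) (ModuleCat.of R M) i) := by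
  intro d
  induction d using Nat.strong_induction_on with
  | _ d IH =>
    intro N _ _ _
    induction ‹Module.Finite R N› using IsNoetherianRing.induction_on_isQuotientEquivQuotientPrime R with
    | subsingleton N =>
      intro _ i _
      exact subsingleton_ext_of_lt_idealDepth (I := maximalIdeal R) (M := ModuleCat.of R M)
        (N := ModuleCat.of R N) (by simp [Module.support_eq_empty])
        (lt_of_le_of_lt (Nat.cast_le.mpr (Nat.le_add_right i d)) ‹_›)
    | exact N₁ N₂ N₃ f g hf hg he h1 h3 =>
      intro hd i hi
      have := h1 ((Module.supportDim_le_of_injective f hf).trans hd) i hi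
      have := h3 ((Module.supportDim_le_of_surjective g hg).trans hd) i hi
      let T := ModuleCat.shortComplexOfCompEqZero f g he.linearMap_comp_eq_zero
      have hT : T.ShortExact := { exact := ModuleCat.shortComplex_exact T he
                                  mono_f := (ModuleCat.mono_iff_injective _).mpr hf
                                  epi_g := (ModuleCat.epi_iff_surjective _).mpr hg }
      refine subsingleton_of_forall_eq 0 fun x => ?_
      obtain ⟨y, hy⟩ := Ext.contravariant_sequence_exact₂ hT (ModuleCat.of R M) x
        (Subsingleton.elim _ _)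
      rw [← hy, Subsingleton.eq_zero y, Ext.comp_zero]
    | quotient N q e =>
      intro hd i hi
      have hi' : (i : ℕ∞) < depth R M :=
        lt_of_le_of_lt (Nat.cast_le.mpr (Nat.le_add_right i d)) hi
      by_cases hq : maximalIdeal R ≤ q.asIdeal
      · refine subsingleton_ext_of_lt_idealDepth (I := maximalIdeal R) (M := ModuleCat.of R M)
          (N := ModuleCat.of R N) ?_ hi'
        change Module.support R N ⊆ _
        rw [e.support_eq, Module.support_eq_zeroLocus, Ideal.annihilator_quotient]
        exact PrimeSpectrum.zeroLocus_anti_mono_ideal hq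
      obtain ⟨r, hrm, hrq⟩ := SetLike.not_le_iff_exists.mp hq
      have hreg : IsSMulRegular N r := by
        rw [e.isSMulRegular_congr, isSMulRegular_quotient_iff_mem_of_smul_mem]
        exact fun x hx => (q.isPrime.mem_or_mem hx).resolve_left hrq
      have : Nontrivial N := e.toEquiv.nontrivial
      have hQ : Nontrivial (QuotSMulTop r N) := nontrivial_quotSMulTop_of_mem_maximalIdeal N hrm
      have hdim := Module.supportDim_quotSMulTop_succ_eq_supportDim hreg hrm
      obtain ⟨d', rfl, hd'⟩ : ∃ d', d = d' + 1 ∧
          Module.supportDim R (QuotSMulTop r N) ≤ (d' : ℕ∞) := by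
        cases hs : Module.supportDim R (QuotSMulTop r N) with
        | bot => exact absurd hs (Module.supportDim_ne_bot_of_nontrivial R _)
        | coe s =>
          rw [← hdim, hs] at hd
          have hd2 : s + 1 ≤ (d : ℕ∞) := by exact_mod_cast hd
          cases s using ENat.recTopCoe with
          | top => simp at hd2
          | coe s =>
            have hd3 : s + 1 ≤ d := by exact_mod_cast hd2
            exact ⟨d - 1, by omega, by exact_mod_cast (by omega : s ≤ d - 1)⟩
      have : Subsingleton (Ext (ModuleCat.of R (QuotSMulTop r N)) (ModuleCat.of R M) (i + 1)) :=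
        IH d' (by omega) _ hd' (i + 1) (by
          rwa [show i + 1 + d' = i + (d' + 1) by omega])
      let T := ModuleCat.smulShortComplex (ModuleCat.of R N) r
      have hT : T.ShortExact :=
        IsSMulRegular.smulShortComplex_shortExact (M := ModuleCat.of R N) hreg
      have htop : (⊤ : Submodule R (Ext (ModuleCat.of R N) (ModuleCat.of R M) i)) ≤
          maximalIdeal R • ⊤ := by
        intro x _
        obtain ⟨y, hy⟩ := Ext.contravariant_sequence_exact₁ hT (ModuleCat.of R M) (n₁ := i + 1) x
          (by omega) (show _ = _ from
            @Subsingleton.elim _ (by exact this) _ _)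
        have hy' : r • y = x := by
          rw [← hy]
          show r • y = (Ext.mk₀ (r • 𝟙 (ModuleCat.of R N))).comp
            (show Ext (ModuleCat.of R N) (ModuleCat.of R M) i from y) (zero_add i)
          rw [Ext.mk₀_smul, Ext.smul_comp]
          exact congrArg (r • ·) (Ext.mk₀_id_comp y).symm
        exact hy' ▸ Submodule.smul_mem_smul hrm trivial
      have h0 := Submodule.eq_bot_of_le_smul_of_le_jacobson_bot (maximalIdeal R) ⊤
        Module.Finite.fg_top htop (maximalIdeal_le_jacobson _)
      exact subsingleton_of_forall_eq 0 fun x => by simpa using h0.le (Submodule.mem_top (x := x))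

/-- The depth is at most `dim R ⧸ p` for every associated prime `p`. -/
lemma depth_le_ringKrullDim_quotient {M : Type v} [AddCommGroup M] [Module R M] [Module.Finite R M]
    {p : Ideal R} (hp : p ∈ associatedPrimes R M) :
    (depth R M : WithBot ℕ∞) ≤ ringKrullDim (R ⧸ p) := by
  have : Small.{u} M := Module.Finite.small R M
  let e : M ≃ₗ[R] Shrink.{u} M := (Shrink.linearEquiv R M).symm
  rw [depth_congr e]
  rw [LinearEquiv.AssociatedPrimes.eq e] at hp
  have := Module.Finite.equiv e
  obtain ⟨f, hf⟩ := ((isAssociatedPrime_iff_exists_injective_linearMap p (Shrink.{u} M)).mp hp).2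
  have hpp := hp.isPrime
  have : Nontrivial (R ⧸ p) := Ideal.Quotient.nontrivial_iff.mpr hpp.ne_top
  have hne : f ≠ 0 := by
    rintro rfl
    obtain ⟨a, b, hab⟩ := exists_pair_ne (R ⧸ p)
    exact hab (hf rfl)
  cases hd : ringKrullDim (R ⧸ p) with
  | bot => exact absurd hd (ne_bot_of_le_ne_bot WithBot.zero_ne_bot ringKrullDim_nonneg_of_nontrivial)
  | coe d =>
    cases d using ENat.recTopCoe with
    | top => exact le_top
    | coe d =>
      refine WithBot.coe_le_coe.mpr ?_
      by_contra h
      rw [not_le] at h
      have := subsingleton_ext_of_add_supportDim_lt_depth (Shrink.{u} M) d (R ⧸ p)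
        (by rw [Module.supportDim_quotient_eq_ringKrullDim, hd]) 0 (by rwa [Nat.zero_add])
      exact hne (by
        have h' := (Ext.addEquiv₀ (X := ModuleCat.of R (R ⧸ p))
          (Y := ModuleCat.of R (Shrink.{u} M))).symm.injective.subsingleton
        exact congrArg ModuleCat.Hom.hom (Subsingleton.elim (ModuleCat.ofHom f) 0))

end Ischebeck

end Groth.Agent.Depth
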