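import Groth.Prelude.Def_CAlg
import Mathlib.RingTheory.Depth.Rees
import Mathlib.RingTheory.KrullDimension.Regular
import Mathlib.RingTheory.KrullDimension.Module
import Mathlib.Algebra.Category.ModuleCat.Ext.HasExt
import Mathlib.Algebra.Category.ModuleCat.Ext.Basic
import Mathlib.RingTheory.Finiteness.Nakayama

/-!
# Basic theory of `LocCoh.idealDepth` and `LocCoh.depth`
-/

universe u v w

open RingTheory.Sequence CategoryTheory Abelian Pointwise IsLocalRing

namespace Groth.Agent.Depth

open LocCoh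

section Gen

variable {R : Type u} [CommRing R] {I : Ideal R} {M : Type v} [AddCommGroup M] [Module R M]

lemma idealDepth_eq_top (h : I • (⊤ : Submodule R M) = ⊤) : idealDepth I M = ⊤ := by
  rw [idealDepth, if_pos h]

lemma idealDepth_def (h : I • (⊤ : Submodule R M) ≠ ⊤) : idealDepth I M =
    ⨆ (rs : List R) (_ : IsWeaklyRegular M rs ∧ ∀ r ∈ rs, r ∈ I), (rs.length : ℕ∞) := by
  rw [idealDepth, if_neg h]

lemma idealDepth_of_subsingleton [Subsingleton M] : idealDepth I M = ⊤ :=
  idealDepth_eq_top (Subsingleton.elim _ _)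

lemma le_idealDepth_of_isWeaklyRegular {rs : List R} (h : IsWeaklyRegular M rs)
    (mem : ∀ r ∈ rs, r ∈ I) : (rs.length : ℕ∞) ≤ idealDepth I M := by
  by_cases hI : I • (⊤ : Submodule R M) = ⊤
  · rw [idealDepth_eq_top hI]; exact le_top
  · rw [idealDepth_def hI]
    exact le_iSup₂_of_le rs ⟨h, mem⟩ le_rfl

lemma isWeaklyRegular_take {rs : List R} (h : IsWeaklyRegular M rs) (n : ℕ) :
    IsWeaklyRegular M (rs.take n) := by
  rw [← List.take_append_drop n rs, isWeaklyRegular_append_iff] at h
  exact h.1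

lemma le_idealDepth_iff_exists (hI : I • (⊤ : Submodule R M) ≠ ⊤) {n : ℕ} :
    (n : ℕ∞) ≤ idealDepth I M ↔
      ∃ rs : List R, rs.length = n ∧ (∀ r ∈ rs, r ∈ I) ∧ IsWeaklyRegular M rs := by
  refine ⟨fun h => ?_, fun ⟨rs, hl, hm, hr⟩ => hl ▸ le_idealDepth_of_isWeaklyRegular hr hm⟩
  rcases n.eq_zero_or_pos with rfl | hn
  · exact ⟨[], rfl, by simp, .nil R M⟩
  · have h' : ((n - 1 : ℕ) : ℕ∞) < idealDepth I M :=
      lt_of_lt_of_le (by exact_mod_cast Nat.sub_lt hn one_pos) h
    rw [idealDepth_def hI] at h'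
    obtain ⟨rs, h'⟩ := lt_iSup_iff.mp h'
    obtain ⟨⟨hr, hm⟩, h'⟩ := lt_iSup_iff.mp h'
    have hlen : n - 1 < rs.length := by exact_mod_cast h'
    exact ⟨rs.take n, by simp; omega, fun r hr' => hm r (List.mem_of_mem_take hr'),
      isWeaklyRegular_take hr n⟩

lemma ofList_le {rs : List R} (mem : ∀ r ∈ rs, r ∈ I) : Ideal.ofList rs ≤ I :=
  Ideal.span_le.mpr mem

lemma isRegular_of_isWeaklyRegular (hI : I • (⊤ : Submodule R M) ≠ ⊤) {rs : List R}
    (h : IsWeaklyRegular M rs) (mem : ∀ r ∈ rs, r ∈ I) : IsRegular M rs :=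
  ⟨h, fun h' => hI (top_le_iff.mp (h'.le.trans (Submodule.smul_mono_left (ofList_le mem))))⟩

lemma le_idealDepth_of_isRegular {rs : List R} (h : IsRegular M rs)
    (mem : ∀ r ∈ rs, r ∈ I) : (rs.length : ℕ∞) ≤ idealDepth I M :=
  le_idealDepth_of_isWeaklyRegular h.toIsWeaklyRegular mem

lemma smul_top_eq_top_congr {N : Type w} [AddCommGroup N] [Module R N] (e : M ≃ₗ[R] N) :
    I • (⊤ : Submodule R M) = ⊤ ↔ I • (⊤ : Submodule R N) = ⊤ := by
  constructor <;> intro h
  · have := congrArg (Submodule.map e.toLinearMap) h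
    simpa [Submodule.map_smul''] using this
  · have := congrArg (Submodule.map e.symm.toLinearMap) h
    simpa [Submodule.map_smul''] using this

lemma idealDepth_congr {N : Type w} [AddCommGroup N] [Module R N] (e : M ≃ₗ[R] N) :
    idealDepth I M = idealDepth I N := by
  by_cases h : I • (⊤ : Submodule R M) = ⊤
  · rw [idealDepth_eq_top h, idealDepth_eq_top ((smul_top_eq_top_congr e).mp h)]
  · rw [idealDepth_def h, idealDepth_def (fun h' => h ((smul_top_eq_top_congr e).mpr h'))]
    simp only [e.isWeaklyRegular_congr]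

lemma depth_congr [IsLocalRing R] {N : Type w} [AddCommGroup N] [Module R N] (e : M ≃ₗ[R] N) :
    depth R M = depth R N :=
  idealDepth_congr e

lemma idealDepth_mono {J : Ideal R} (hIJ : I ≤ J) (hJ : J • (⊤ : Submodule R M) ≠ ⊤) :
    idealDepth I M ≤ idealDepth J M := by
  rw [idealDepth_def (fun h => hJ (top_le_iff.mp (h.ge.trans (Submodule.smul_mono_left hIJ))))]
  exact iSup₂_le fun rs h => le_idealDepth_of_isWeaklyRegular h.1 fun r hr => hIJ (h.2 r hr)

lemma eq_of_forall_le_iff {a b : ℕ∞} (h : ∀ n : ℕ, (n : ℕ∞) ≤ a ↔ (n : ℕ∞) ≤ b) : a = b :=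
  le_antisymm (ENat.forall_natCast_le_iff_le.mp fun n => (h n).mp)
    (ENat.forall_natCast_le_iff_le.mp fun n => (h n).mpr)

lemma le_of_forall_imp {a b : ℕ∞} (h : ∀ n : ℕ, (n : ℕ∞) ≤ a → (n : ℕ∞) ≤ b) : a ≤ b :=
  ENat.forall_natCast_le_iff_le.mp h

lemma smul_top_ne_top_of_isLocalRing [IsLocalRing R] [Module.Finite R M] [Nontrivial M]
    (hI : I ≤ maximalIdeal R) : I • (⊤ : Submodule R M) ≠ ⊤ :=
  fun h => Submodule.top_ne_ideal_smul_of_le_jacobson_annihilator
    (hI.trans (maximalIdeal_le_jacobson _)) h.symm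

lemma maximalIdeal_smul_top_ne_top [IsLocalRing R] [Module.Finite R M] [Nontrivial M] :
    maximalIdeal R • (⊤ : Submodule R M) ≠ ⊤ :=
  smul_top_ne_top_of_isLocalRing le_rfl

lemma smul_top_ne_top_self (hI : I ≠ ⊤) : I • (⊤ : Submodule R R) ≠ ⊤ := by
  simpa using hI

end Gen

section Ext

variable {R : Type u} [CommRing R] [Small.{v} R] {I : Ideal R}

/-- If `IM = M` then every `Ext(N, M)` with `Supp N ⊆ V(I)` vanishes. -/
lemma subsingleton_ext_of_smul_top_eq_top {M N : ModuleCat.{v} R} [Module.Finite R M]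
    [Module.Finite R N] (hM : I • (⊤ : Submodule R M) = ⊤)
    (hN : Module.support R N ⊆ PrimeSpectrum.zeroLocus I) (i : ℕ) :
    Subsingleton (Ext N M i) := by
  obtain ⟨r, hr, hr'⟩ := Submodule.exists_sub_one_mem_and_smul_eq_zero_of_fg_of_le_smul I ⊤
    Module.Finite.fg_top hM.ge
  have he : 1 - r ∈ I := by simpa using I.neg_mem hr
  have hid : ∀ m : M, (1 - r) • m = m := fun m => by simp [sub_smul, hr' m trivial]
  rw [Module.support_eq_zeroLocus, PrimeSpectrum.zeroLocus_subset_zeroLocus_iff] at hN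
  obtain ⟨k, hk⟩ := hN he
  have hidk : ∀ (n : ℕ) (m : M), (1 - r) ^ n • m = m := by
    intro n
    induction n with
    | zero => simp
    | succ n ih => intro m; rw [pow_succ, mul_smul, hid, ih]
  have h1 : ((1 - r) ^ k) • 𝟙 M = 𝟙 M := by
    ext m
    exact hidk k m
  refine subsingleton_of_forall_eq 0 fun x => ?_
  have h2 : ((1 - r) ^ k) • 𝟙 N = 0 := by
    simp [← ModuleCat.lsmul_eq_smul_id, Module.mem_annihilator_iff_lsmul_eq_zero.mp hk]
  calc x = x.comp (Ext.mk₀ (((1 - r) ^ k) • 𝟙 M)) (add_zero i) := by rw [h1, Ext.comp_mk₀_id]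
    _ = (Ext.mk₀ (((1 - r) ^ k) • 𝟙 N)).comp x (zero_add i) := by simp [Ext.mk₀_smul]
    _ = 0 := by simp [h2]

variable [IsNoetherianRing R]

/-- Vanishing of `Ext` below the depth, for any `N` supported in `V(I)`. -/
lemma subsingleton_ext_of_lt_idealDepth {M N : ModuleCat.{v} R} [Module.Finite R M]
    [Module.Finite R N] (hN : Module.support R N ⊆ PrimeSpectrum.zeroLocus I) {i : ℕ}
    (h : (i : ℕ∞) < idealDepth I M) : Subsingleton (Ext N M i) := by
  by_cases hI : I • (⊤ : Submodule R M) = ⊤
  · exact subsingleton_ext_of_smul_top_eq_top hI hN i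
  · obtain ⟨rs, hl, hm, hr⟩ := (le_idealDepth_iff_exists hI).mp (Order.add_one_le_of_lt h : ((i + 1 : ℕ) : ℕ∞) ≤ _)
    exact ModuleCat.subsingleton_ext_of_exists_isRegular I N hN M (lt_top_iff_ne_top.mpr hI) rs hm
      (isRegular_of_isWeaklyRegular hI hr hm) i (hl ▸ Nat.lt_succ_self i)

/-- Rees: the depth is detected by `Ext` out of any `N` with support `V(I)`. -/
lemma le_idealDepth_iff_ext_of_support {M N : ModuleCat.{v} R} [Module.Finite R M]
    [Module.Finite R N] (hN : Module.support R N = PrimeSpectrum.zeroLocus I) {n : ℕ} :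
    (n : ℕ∞) ≤ idealDepth I M ↔ ∀ i < n, Subsingleton (Ext N M i) := by
  refine ⟨fun h i hi => subsingleton_ext_of_lt_idealDepth hN.subset
    (lt_of_lt_of_le (by exact_mod_cast hi) h), fun h => ?_⟩
  by_cases hI : I • (⊤ : Submodule R M) = ⊤
  · rw [idealDepth_eq_top hI]; exact le_top
  · obtain ⟨rs, hl, hm, hr⟩ :=
      ModuleCat.exists_isRegular_of_exists_subsingleton_ext I n M (lt_top_iff_ne_top.mpr hI) N hN h
    exact hl ▸ le_idealDepth_of_isRegular hr hm

variable (I) in
/-- `R ⧸ I` as an object of `ModuleCat.{v} R`. -/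
noncomputable abbrev quotObj : ModuleCat.{v} R := ModuleCat.of R (Shrink.{v} (R ⧸ I))

omit [IsNoetherianRing R] in
lemma support_quotObj : Module.support R (quotObj.{u, v} I) = PrimeSpectrum.zeroLocus I := by
  rw [(Shrink.linearEquiv R _).support_eq, Module.support_eq_zeroLocus, Ideal.annihilator_quotient]

instance finite_quotObj : Module.Finite R (quotObj.{u, v} I) :=
  Module.Finite.equiv (Shrink.linearEquiv R (R ⧸ I)).symm

lemma le_idealDepth_iff_ext (M : Type v) [AddCommGroup M] [Module R M] [Module.Finite R M]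
    {n : ℕ} : (n : ℕ∞) ≤ idealDepth I M ↔
      ∀ i < n, Subsingleton (Ext (quotObj.{u, v} I) (ModuleCat.of R M) i) :=
  le_idealDepth_iff_ext_of_support (M := ModuleCat.of R M) support_quotObj

/-- The depth only depends on the radical of the ideal. -/
lemma idealDepth_eq_of_radical_eq {J : Ideal R} (h : I.radical = J.radical) (M : Type v)
    [AddCommGroup M] [Module R M] [Module.Finite R M] : idealDepth I M = idealDepth J M := by
  refine eq_of_forall_le_iff fun n => ?_
  rw [le_idealDepth_iff_ext M, ← le_idealDepth_iff_ext_of_support (M := ModuleCat.of R M)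
    (N := quotObj.{u, v} I) (I := J)]
  rw [support_quotObj]
  exact PrimeSpectrum.zeroLocus_eq_iff.mpr h

/-- Short exact sequences: `min (depth M') (depth M'') ≤ depth M`. -/
lemma le_idealDepth_mid {M' M M'' : Type v} [AddCommGroup M'] [Module R M'] [AddCommGroup M]
    [Module R M] [AddCommGroup M''] [Module R M''] [Module.Finite R M'] [Module.Finite R M]
    [Module.Finite R M''] {f : M' →ₗ[R] M} {g : M →ₗ[R] M''} (hf : Function.Injective f)
    (hg : Function.Surjective g) (he : Function.Exact f g) {n : ℕ}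
    (h1 : (n : ℕ∞) ≤ idealDepth I M') (h3 : (n : ℕ∞) ≤ idealDepth I M'') :
    (n : ℕ∞) ≤ idealDepth I M := by
  rw [le_idealDepth_iff_ext] at h1 h3 ⊢
  let S := ModuleCat.shortComplexOfCompEqZero f g he.linearMap_comp_eq_zero
  have hS : S.ShortExact := { exact := ModuleCat.shortComplex_exact S he
                              mono_f := (ModuleCat.mono_iff_injective _).mpr hf
                              epi_g := (ModuleCat.epi_iff_surjective _).mpr hg }
  intro i hi
  refine subsingleton_of_forall_eq 0 fun x => ?_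
  have := h1 i hi
  have := h3 i hi
  obtain ⟨y, hy⟩ := Ext.covariant_sequence_exact₂ (quotObj.{u, v} I) hS x (Subsingleton.elim _ _)
  rw [← hy, Subsingleton.eq_zero y, Ext.zero_comp]

/-- Short exact sequences: `min (depth M) (depth M'' + 1) ≤ depth M'`. -/
lemma le_idealDepth_left {M' M M'' : Type v} [AddCommGroup M'] [Module R M'] [AddCommGroup M]
    [Module R M] [AddCommGroup M''] [Module R M''] [Module.Finite R M'] [Module.Finite R M]
    [Module.Finite R M''] {f : M' →ₗ[R] M} {g : M →ₗ[R] M''} (hf : Function.Injective f)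
    (hg : Function.Surjective g) (he : Function.Exact f g) {n : ℕ}
    (h2 : (n : ℕ∞) ≤ idealDepth I M) (h3 : (n : ℕ∞) ≤ idealDepth I M'' + 1) :
    (n : ℕ∞) ≤ idealDepth I M' := by
  rw [le_idealDepth_iff_ext] at h2 ⊢
  let S := ModuleCat.shortComplexOfCompEqZero f g he.linearMap_comp_eq_zero
  have hS : S.ShortExact := { exact := ModuleCat.shortComplex_exact S he
                              mono_f := (ModuleCat.mono_iff_injective _).mpr hf
                              epi_g := (ModuleCat.epi_iff_surjective _).mpr hg }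
  intro i hi
  refine subsingleton_of_forall_eq 0 fun x => ?_
  have := h2 i hi
  cases i with
  | zero =>
    exact (Ext.postcomp_mk₀_injective_of_mono (quotObj.{u, v} I) S.f (hf := hS.mono_f))
      (Subsingleton.elim _ _)
  | succ j =>
    have h4 : ((j + 1 : ℕ) : ℕ∞) ≤ idealDepth I M'' := by
      have hj : ((j + 1 : ℕ) : ℕ∞) + 1 ≤ idealDepth I M'' + 1 :=
        le_trans (by exact_mod_cast hi) h3
      exact (ENat.add_le_add_iff_right ENat.one_ne_top).mp hj
    have := (le_idealDepth_iff_ext M'').mp h4 j (by omega)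
    obtain ⟨y, hy⟩ := Ext.covariant_sequence_exact₁ (quotObj.{u, v} I) hS x
      (Subsingleton.elim _ _) rfl
    rw [← hy, Subsingleton.eq_zero y, Ext.zero_comp]

/-- Short exact sequences: `min (depth M) (depth M' - 1) ≤ depth M''`. -/
lemma le_idealDepth_right {M' M M'' : Type v} [AddCommGroup M'] [Module R M'] [AddCommGroup M]
    [Module R M] [AddCommGroup M''] [Module R M''] [Module.Finite R M'] [Module.Finite R M]
    [Module.Finite R M''] {f : M' →ₗ[R] M} {g : M →ₗ[R] M''} (hf : Function.Injective f)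
    (hg : Function.Surjective g) (he : Function.Exact f g) {n : ℕ}
    (h1 : ((n + 1 : ℕ) : ℕ∞) ≤ idealDepth I M') (h2 : (n : ℕ∞) ≤ idealDepth I M) :
    (n : ℕ∞) ≤ idealDepth I M'' := by
  rw [le_idealDepth_iff_ext] at h1 h2 ⊢
  let S := ModuleCat.shortComplexOfCompEqZero f g he.linearMap_comp_eq_zero
  have hS : S.ShortExact := { exact := ModuleCat.shortComplex_exact S he
                              mono_f := (ModuleCat.mono_iff_injective _).mpr hf
                              epi_g := (ModuleCat.epi_iff_surjective _).mpr hg }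
  intro i hi
  refine subsingleton_of_forall_eq 0 fun x => ?_
  have := h1 (i + 1) (by omega)
  have := h2 i hi
  obtain ⟨y, hy⟩ := Ext.covariant_sequence_exact₃ (quotObj.{u, v} I) hS x (n₁ := i + 1) rfl
    (Subsingleton.elim _ _)
  rw [← hy, Subsingleton.eq_zero y, Ext.zero_comp]

/-- Dividing by a regular element of `I` drops the `I`-depth by exactly one. -/
lemma idealDepth_quotSMulTop_add_one (M : Type v) [AddCommGroup M] [Module R M]
    [Module.Finite R M] {r : R} (hr : r ∈ I) (reg : IsSMulRegular M r) :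
    idealDepth I (QuotSMulTop r M) + 1 = idealDepth I M := by
  let S := ModuleCat.smulShortComplex (ModuleCat.of R M) r
  have hS : S.ShortExact := IsSMulRegular.smulShortComplex_shortExact (M := ModuleCat.of R M) reg
  have hzero : ∀ (i : ℕ) (x : Ext (quotObj.{u, v} I) (ModuleCat.of R M) i),
      x.comp (Ext.mk₀ S.f) (add_zero i) = 0 := fun i x => by
    have hann : r ∈ Module.annihilator R (quotObj.{u, v} I) := by
      rw [(Shrink.linearEquiv R _).annihilator_eq, Ideal.annihilator_quotient]; exact hr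
    have h0 := Ext.postcomp_smul_id_eq_zero_of_mem_annihilator (M := ModuleCat.of R M) hann i
    exact congrArg (fun g => g.hom x) h0
  have key : ∀ n : ℕ, (n : ℕ∞) ≤ idealDepth I (QuotSMulTop r M) ↔
      ((n + 1 : ℕ) : ℕ∞) ≤ idealDepth I M := by
    intro n
    simp only [le_idealDepth_iff_ext]
    constructor
    · intro h i hi
      refine subsingleton_of_forall_eq 0 fun x => ?_
      cases i with
      | zero =>
        exact (Ext.postcomp_mk₀_injective_of_mono (quotObj.{u, v} I) S.f (hf := hS.mono_f))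
          ((hzero 0 x).trans (map_zero _).symm)
      | succ j =>
        have : Subsingleton (Ext (quotObj.{u, v} I) S.X₃ j) := h j (by omega)
        obtain ⟨y, hy⟩ := Ext.covariant_sequence_exact₁ (quotObj.{u, v} I) hS x (hzero _ x) rfl
        rw [← hy, Subsingleton.eq_zero y, Ext.zero_comp]
        rfl
    · intro h i hi
      refine subsingleton_of_forall_eq 0 fun x => ?_
      have : Subsingleton (Ext (quotObj.{u, v} I) S.X₁ (i + 1)) := h (i + 1) (by omega)
      have : Subsingleton (Ext (quotObj.{u, v} I) S.X₂ i) := h i (by omega)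
      obtain ⟨y, hy⟩ := Ext.covariant_sequence_exact₃ (quotObj.{u, v} I) hS
        (show Ext (quotObj.{u, v} I) S.X₃ i from x) (n₁ := i + 1) rfl (Subsingleton.elim _ _)
      refine hy.symm.trans ?_
      rw [Subsingleton.eq_zero y, Ext.zero_comp]
      rfl
  refine eq_of_forall_le_iff fun n => ?_
  cases n with
  | zero => simp
  | succ n =>
    rw [← key n, Nat.cast_add, Nat.cast_one]
    exact ENat.add_le_add_iff_right ENat.one_ne_top

end Ext

section SameUniverse

variable {R : Type u} [CommRing R] [IsNoetherianRing R] {I : Ideal R}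

lemma le_idealDepth_iff_ext_quot (M : Type u) [AddCommGroup M] [Module R M] [Module.Finite R M]
    {n : ℕ} : (n : ℕ∞) ≤ idealDepth I M ↔
      ∀ i < n, Subsingleton (Ext (ModuleCat.of R (R ⧸ I)) (ModuleCat.of R M) i) := by
  refine le_idealDepth_iff_ext_of_support (M := ModuleCat.of R M) ?_
  show Module.support R (R ⧸ I) = _
  rw [Module.support_eq_zeroLocus, Ideal.annihilator_quotient]

lemma le_depth_iff_ext_residueField [IsLocalRing R] (M : Type u) [AddCommGroup M] [Module R M]
    [Module.Finite R M] {n : ℕ} : (n : ℕ∞) ≤ depth R M ↔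
      ∀ i < n, Subsingleton (Ext (ModuleCat.of R (ResidueField R)) (ModuleCat.of R M) i) :=
  le_idealDepth_iff_ext_quot M

end SameUniverse

section Zero

variable {R : Type u} [CommRing R] [IsNoetherianRing R] {I : Ideal R}
  {M : Type v} [AddCommGroup M] [Module R M]

omit [IsNoetherianRing R] in
lemma one_le_idealDepth_iff (hI : I • (⊤ : Submodule R M) ≠ ⊤) :
    1 ≤ idealDepth I M ↔ ∃ r ∈ I, IsSMulRegular M r := by
  rw [show (1 : ℕ∞) = ((1 : ℕ) : ℕ∞) from rfl, le_idealDepth_iff_exists hI]
  constructor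
  · rintro ⟨rs, hl, hm, hr⟩
    obtain ⟨a, rfl⟩ := List.length_eq_one_iff.mp hl
    exact ⟨a, hm a (by simp), ((isWeaklyRegular_singleton_iff M a).mp hr)⟩
  · rintro ⟨r, hr, hreg⟩
    exact ⟨[r], rfl, by simpa using hr, (isWeaklyRegular_singleton_iff M r).mpr hreg⟩

lemma idealDepth_eq_zero_iff [Module.Finite R M] (hI : I • (⊤ : Submodule R M) ≠ ⊤) :
    idealDepth I M = 0 ↔ ∃ p ∈ associatedPrimes R M, I ≤ p := by
  rw [← not_iff_not, ← Ne, ← Order.one_le_iff_ne_zero, one_le_idealDepth_iff hI]
  constructor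
  · rintro ⟨r, hr, hreg⟩ ⟨p, hp, hle⟩
    have : r ∈ ⋃ q ∈ associatedPrimes R M, (q : Set R) := Set.mem_biUnion hp (hle hr)
    rw [biUnion_associatedPrimes_eq_compl_regular] at this
    exact this hreg
  · intro h
    by_contra! h'
    refine h ?_
    have hsub : (I : Set R) ⊆ ⋃ q ∈ associatedPrimes R M, (q : Set R) := by
      rw [biUnion_associatedPrimes_eq_compl_regular]
      exact fun r hr => h' r hr
    exact (Ideal.subset_union_prime_finite (associatedPrimes.finite R M) ⊥ ⊥
      (fun p hp _ _ => hp.isPrime)).mp hsub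

end Zero

section Local

variable {R : Type u} [CommRing R] [IsNoetherianRing R] [IsLocalRing R]
  {M : Type v} [AddCommGroup M] [Module R M] [Module.Finite R M]

lemma depth_eq_zero_iff [Nontrivial M] :
    depth R M = 0 ↔ maximalIdeal R ∈ associatedPrimes R M := by
  rw [depth, idealDepth_eq_zero_iff maximalIdeal_smul_top_ne_top]
  refine ⟨fun ⟨p, hp, hle⟩ => ?_, fun h => ⟨_, h, le_rfl⟩⟩
  rwa [(maximalIdeal.isMaximal R).eq_of_le hp.isPrime.ne_top hle]

/-- The depth is at most the dimension of the support. -/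
lemma idealDepth_le_supportDim [Nontrivial M] {I : Ideal R} (hI : I ≤ maximalIdeal R) :
    (idealDepth I M : WithBot ℕ∞) ≤ Module.supportDim R M := by
  have hne := smul_top_ne_top_of_isLocalRing (M := M) hI
  obtain ⟨d, hd⟩ : ∃ d : ℕ∞, Module.supportDim R M = d := by
    cases h : Module.supportDim R M with
    | bot => exact absurd h (Module.supportDim_ne_bot_of_nontrivial R M)
    | coe d => exact ⟨d, rfl⟩
  rw [hd]
  refine WithBot.coe_le_coe.mpr (le_of_forall_imp fun n hn => ?_)
  obtain ⟨rs, hl, hm, hr⟩ := (le_idealDepth_iff_exists hne).mp hn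
  have hreg := isRegular_of_isWeaklyRegular hne hr hm
  have h' := Module.supportDim_add_length_eq_supportDim_of_isRegular rs hreg
  rw [hl] at h'
  have hb : Module.supportDim R (M ⧸ Ideal.ofList rs • (⊤ : Submodule R M)) ≠ ⊥ :=
    have := hreg.quot_ofList_smul_nontrivial ⊤
    Module.supportDim_ne_bot_of_nontrivial R _
  cases h : Module.supportDim R (M ⧸ Ideal.ofList rs • (⊤ : Submodule R M)) with
  | bot => exact absurd h hb
  | coe e =>
    rw [h, hd] at h'
    have h'' : e + (n : ℕ∞) = d := by exact_mod_cast h'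
    exact h'' ▸ le_add_self

lemma depth_le_supportDim [Nontrivial M] :
    (depth R M : WithBot ℕ∞) ≤ Module.supportDim R M :=
  idealDepth_le_supportDim le_rfl

lemma depth_le_ringKrullDim [Nontrivial M] :
    (depth R M : WithBot ℕ∞) ≤ ringKrullDim R :=
  depth_le_supportDim.trans (Module.supportDim_le_ringKrullDim R M)

end Local

end Groth.Agent.Depth
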